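import Cfsg.Agent.Lib.LMW.Defs
import Cfsg.Agent.Lib.Fgs.Camina
import Cfsg.Agent.Lib.Transfer.Residual

/-! LMW, package API: the Frobenius section `G / K0 N` (proof: plans/LMW.md, API). -/

set_option autoImplicit false
set_option linter.unusedSectionVars false
set_option linter.unusedVariables false

namespace CfsgLib.LMW

open Cfsg CfsgLib.Char CfsgLib.CharDeep CfsgLib.ChDeg CfsgLib.RelDeg CfsgLib.NDiv Subgroup MulAction
open scoped commutatorElement

variable {G : Type*} [Group G] [Finite G] {N : Subgroup G} [N.Normal] {g₀ : G}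

namespace St

variable (h : St N g₀)
include h

theorem quot (L : Subgroup G) [L.Normal] (hL : L ≤ ⁅N, N⁆) :
    St (N.map (QuotientGroup.mk' L)) (g₀ : G ⧸ L) := by
  have hs := QuotientGroup.mk'_surjective L
  have hLN : (QuotientGroup.mk' L).ker ≤ N := by
    rw [QuotientGroup.ker_mk']; exact hL.trans (commutator_le_left _ _)
  have hi : (N.map (QuotientGroup.mk' L)).index = N.index := by
    rw [index_map_eq _ hs hLN]
  refine ⟨fun ψ ψ' a b => h.nd _ _ (isIrr_infl L a) (isIrr_infl L b), h.nor.map _ hs, ?_,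
    fun e => h.index_ne (by rw [← hi, e, index_top]), ?_, fun p K _ hp hK => ?_⟩
  · have := congrArg (map (QuotientGroup.mk' L)) h.gen
    rwa [Subgroup.map_sup, map_top_of_surjective _ hs, MonoidHom.map_zpowers] at this
  · obtain ⟨χ, hχ, k, e⟩ := h.deg
    have hc := isCharacter_of_isIrr hχ
    refine ⟨_, isIrr_defl hχ (hL.trans k), ?_, by rw [deg_defl hc (hL.trans k), e, hi]⟩
    rw [← map_commutator]
    rintro _ ⟨x, hx, rfl⟩
    exact (mem_cker_defl hc (hL.trans k)).2 (k hx)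
  · have := h.nil p (K.comap (QuotientGroup.mk' L)) hp fun x => by
      obtain ⟨x, rfl⟩ := QuotientGroup.mk_surjective x
      obtain ⟨k, hk⟩ := hK ((x : G ⧸ L) : (G ⧸ L) ⧸ K)
      refine ⟨k, ?_⟩
      rw [← QuotientGroup.mk_pow, QuotientGroup.eq_one_iff] at hk ⊢
      exact hk
    rw [← map_commutator_of_surjective hs, map_le_iff_le_comap]
    exact this

section ab

variable (ab : ∀ a ∈ N, ∀ b ∈ N, a * b = b * a)
include ab

theorem ab_range {g : G} (hg : g ∉ N) : (commHom N ab g).range = _root_.commutator G := by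
  refine le_antisymm ?_ fun b hb => by_contra fun hb' => ?_
  · rintro _ ⟨a, rfl⟩
    exact commutator_mem_commutator (mem_top g) (mem_top (a : G))
  obtain ⟨l, l1, l2⟩ := exists_lin_of_ne ab (h.comm_le hb) hb'
  have e := h.stab_lin l hg (mem_stab_iff.2 fun v hv => l2 _ ⟨⟨v, hv⟩, rfl⟩)
  rw [← commHom_range_eq N ab g₀ h.gen] at hb
  obtain ⟨a, rfl⟩ := hb
  exact l1 (mem_stab_iff.1 (e ▸ mem_top g₀ : g₀ ∈ stabilizer G l) a a.2)

theorem ab_cen {g x : G} (hg : g ∉ N) (hx : x ∈ N) (c : g * x = x * g) : x ∈ center G := by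
  have e1 := card_eq_commutator_mul_center N ab g₀ h.gen
  have e2 := (commHom N ab g).ker.card_mul_index
  rw [index_ker, h.ab_range ab hg, commHom_ker_map, ← inf_subgroupOf_left,
    Nat.card_congr (subgroupOfEquivOfLe inf_le_left).toEquiv, e1, mul_comm] at e2
  have e3 : N ⊓ center G = N ⊓ centralizer {g} :=
    eq_of_le_of_card_ge (inf_le_inf_left _ (center_le_centralizer _))
      (Nat.eq_of_mul_eq_mul_left Nat.card_pos e2).le
  exact (e3.ge ⟨hx, mem_centralizer_singleton_iff.2 c.symm⟩).2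

theorem ab_pow {b : G} (hb : b ∈ _root_.commutator G) (hz : b ∈ center G) {s : ℕ} (hs : s.Prime)
    (hd : s ∣ N.index) : b ^ s = 1 := by
  have : Fact s.Prime := ⟨hs⟩
  obtain ⟨g, hg⟩ := exists_prime_orderOf_dvd_card' (G := G ⧸ N) s hd
  obtain ⟨g, rfl⟩ := QuotientGroup.mk_surjective g
  have g1 : g ∉ N := fun e => by
    rw [(QuotientGroup.eq_one_iff g).2 e, orderOf_one] at hg
    exact hs.ne_one hg.symm
  have g2 : g ^ s ∈ N := by rw [← QuotientGroup.eq_one_iff, QuotientGroup.mk_pow, ← hg, pow_orderOf_eq_one]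
  rw [← h.ab_range ab g1] at hb
  obtain ⟨a, ha⟩ := hb
  have e : ⁅g, (a : G)⁆ = b := ha
  have := pow_comm_aux (a := g) (t := (a : G)) (e ▸ (mem_center_iff.1 hz g).symm) s
  rw [e, ab _ g2 _ a.2, mul_assoc] at this
  exact (right_eq_mul.1 this)

theorem ab_cop : (Nat.card (_root_.commutator G)).Coprime N.index := by
  refine Nat.coprime_of_dvd fun s hs h1 h2 => ?_
  have : Fact s.Prime := ⟨hs⟩
  obtain ⟨P⟩ : Nonempty (Sylow s G) := inferInstance
  obtain ⟨b, hb, hbP, b1, hP⟩ := Fgs.exists_mem_normal_sylow_le_cent _ h1 P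
  obtain ⟨g, hg, g1⟩ : ∃ g ∈ (P : Subgroup G), g ∉ N := by
    by_contra! c
    exact P.not_dvd_index (h2.trans (index_dvd_of_le c))
  have hz := h.ab_cen ab g1 (h.comm_le hb) (mem_centralizer_singleton_iff.1 (hP hg))
  have hbs := h.ab_pow ab hb hz hs h2
  have only : ∀ t, t.Prime → t ∣ N.index → t = s := fun t ht hd => by_contra fun n =>
    b1 (eq_one_of_cop ((Nat.coprime_primes ht hs).2 n) (h.ab_pow ab hb hz ht hd) hbs)
  obtain ⟨k, hk⟩ : ∃ k, N.index = s ^ k :=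
    ⟨_, Nat.eq_prime_pow_of_unique_prime_dvd index_ne_zero_of_finite fun {t} ht hd => only t ht hd⟩
  have := Transfer.pResidual_normal s G
  have hB := h.nil s (pResidual s G) hs Transfer.isPGroup_quotient_pResidual hb
  have : b ∈ N ∧ (orderOf b).Coprime s := by
    refine closure_induction (p := fun x _ => x ∈ N ∧ (orderOf x).Coprime s) (fun x hx => ⟨?_, hx⟩)
      ⟨one_mem _, by simp⟩ (fun x y _ _ hx hy => ⟨mul_mem hx.1 hy.1, ?_⟩)
      (fun x _ hx => ⟨inv_mem hx.1, by rw [orderOf_inv]; exact hx.2⟩) hB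
    · exact mem_of_cop (Nat.Coprime.pow_right k hx) (pow_orderOf_eq_one x ▸ one_mem _)
        (hk ▸ pow_index_mem N x)
    · exact Nat.Coprime.of_dvd_left (Commute.orderOf_mul_dvd_mul_orderOf (ab _ hx.1 _ hy.1))
        (Nat.Coprime.mul_left hx.2 hy.2)
  exact b1 (eq_one_of_cop this.2 (pow_orderOf_eq_one b) hbs)

theorem ab_inf {b : G} (hb : b ∈ _root_.commutator G) (hz : b ∈ center G) : b = 1 := by
  obtain ⟨s, hs, hd⟩ := Nat.exists_prime_and_dvd h.index_ne
  exact eq_one_of_cop ((h.ab_cop ab).coprime_dvd_right hd)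
    (congrArg Subtype.val (pow_card_eq_one' (x := (⟨b, hb⟩ : _root_.commutator G)))) (h.ab_pow ab hb hz hs hd)

theorem ab_onto {g b : G} (hg : g ∉ N) (hb : b ∈ _root_.commutator G) :
    ∃ x ∈ _root_.commutator G, b = ⁅g, x⁆ :=
  surj (fun y hy => Normal.conj_mem inferInstance y hy g)
    (fun y hy c => h.ab_inf ab hy (h.ab_cen ab hg (h.comm_le hy) c)) hb

theorem ab_ne : _root_.commutator G ≠ ⊥ := by
  obtain ⟨χ, hχ, -, e⟩ := h.deg
  exact fun c => commutator_ne_bot_of_deg hχ (e ▸ h.index_ne) c.le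

theorem ab_lt : N.index < Nat.card (_root_.commutator G) := by
  obtain ⟨⟨b, hb⟩, b1⟩ := ne_bot_iff_exists_ne_one.1 (h.ab_ne ab)
  have b1 : b ≠ 1 := fun e => b1 (Subtype.ext e)
  let f : G ⧸ N → _root_.commutator G := Quotient.lift
    (fun g : G => ⟨g * b * g⁻¹, Normal.conj_mem inferInstance b hb g⟩) fun x y e => Subtype.ext (by
      have := ab _ (QuotientGroup.leftRel_apply.1 e) _ (h.comm_le hb)
      show x * b * x⁻¹ = y * b * y⁻¹
      calc x * b * x⁻¹ = x * (b * (x⁻¹ * y)) * y⁻¹ := by group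
        _ = _ := by rw [← this]; group)
  have := Fintype.ofFinite (G ⧸ N)
  have := Fintype.ofFinite (_root_.commutator G)
  rw [index, Nat.card_eq_fintype_card, Nat.card_eq_fintype_card]
  refine Fintype.card_lt_of_injective_of_notMem f ?_ (b := 1) ?_
  · intro x y e
    obtain ⟨x, rfl⟩ := QuotientGroup.mk_surjective x
    obtain ⟨y, rfl⟩ := QuotientGroup.mk_surjective y
    have e1 : x * b * x⁻¹ = y * b * y⁻¹ := congrArg Subtype.val e
    refine QuotientGroup.eq.2 (by_contra fun n => b1 (h.ab_inf ab hb (h.ab_cen ab n (h.comm_le hb) ?_)))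
    calc x⁻¹ * y * b = x⁻¹ * (y * b * y⁻¹) * y := by group
      _ = _ := by rw [← e1]; group
  · rintro ⟨x, e⟩
    obtain ⟨x, rfl⟩ := QuotientGroup.mk_surjective x
    have e1 : x * b * x⁻¹ = 1 := congrArg Subtype.val e
    exact b1 (by simpa using e1)

end ab

omit h in
theorem qab : ∀ a ∈ N.map (QuotientGroup.mk' ⁅N, N⁆), ∀ b ∈ N.map (QuotientGroup.mk' ⁅N, N⁆),
    a * b = b * a := by
  rintro _ ⟨a, ha, rfl⟩ _ ⟨b, hb, rfl⟩
  exact (commutator_mem_iff_commute _ a b).1 (commutator_mem_commutator ha hb)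

omit h in
theorem mk_mem {L : Subgroup G} [L.Normal] (hL : L ≤ N) {g : G} :
    (g : G ⧸ L) ∈ N.map (QuotientGroup.mk' L) ↔ g ∈ N := mk_mem_map hL

omit h in
theorem mk_comm {L : Subgroup G} [L.Normal] {g : G} (hg : g ∈ _root_.commutator G) :
    (g : G ⧸ L) ∈ _root_.commutator (G ⧸ L) :=
  map_commutator_of_surjective (QuotientGroup.mk'_surjective L) ▸ mem_map_of_mem _ hg

omit h in
theorem card_comm (L : Subgroup G) [L.Normal] :
    Nat.card (_root_.commutator (G ⧸ L)) = L.relIndex (_root_.commutator G) := by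
  rw [← map_commutator_of_surjective (QuotientGroup.mk'_surjective L), ← relIndex_bot_left,
    ← relIndex_comap, MonoidHom.comap_bot, QuotientGroup.ker_mk']

omit h in
theorem index_quot {L : Subgroup G} [L.Normal] (hL : L ≤ N) : (N.map (QuotientGroup.mk' L)).index = N.index :=
  index_map_eq _ (QuotientGroup.mk'_surjective L) (by rwa [QuotientGroup.ker_mk'])

omit h in
theorem A_le : ⁅N, N⁆ ≤ N := commutator_le_left _ _

theorem frob {g x : G} (hg : g ∉ N) (hx : x ∈ N) (hc : ⁅x, g⁆ ∈ ⁅N, N⁆) : x ∈ K0 N := by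
  have : (N.map (QuotientGroup.mk' ⁅N, N⁆)).Normal := (h.quot _ le_rfl).nor
  exact ⟨hx, (h.quot _ le_rfl).ab_cen qab (mt (mk_mem A_le).1 hg) (mem_map_of_mem _ hx)
    ((commutator_mem_iff_commute _ x g).1 hc).symm⟩

theorem cop : ((⁅N, N⁆).relIndex (_root_.commutator G)).Coprime N.index := by
  have : (N.map (QuotientGroup.mk' ⁅N, N⁆)).Normal := (h.quot _ le_rfl).nor
  have := (h.quot _ le_rfl).ab_cop qab
  rwa [card_comm, index_quot A_le] at this

omit h in
theorem A_le_K0 : ⁅N, N⁆ ≤ K0 N := fun x hx => mem_K0.2 ⟨A_le hx, fun g =>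
  commutator_le_left _ _ (commutator_mem_commutator hx (mem_top g))⟩

theorem inf : K0 N ⊓ _root_.commutator G = ⁅N, N⁆ := by
  have : (N.map (QuotientGroup.mk' ⁅N, N⁆)).Normal := (h.quot _ le_rfl).nor
  refine le_antisymm (fun x hx => ?_) (le_inf A_le_K0 (commutator_mono le_top le_top))
  exact (QuotientGroup.eq_one_iff x).1 ((h.quot _ le_rfl).ab_inf qab (mk_comm hx.2) hx.1.2)

theorem onto {g b : G} (hg : g ∉ N) (hb : b ∈ _root_.commutator G) :
    ∃ x ∈ _root_.commutator G, ⁅x, g⁆⁻¹ * b ∈ ⁅N, N⁆ := by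
  have : (N.map (QuotientGroup.mk' ⁅N, N⁆)).Normal := (h.quot _ le_rfl).nor
  obtain ⟨x, hx, e⟩ := (h.quot _ le_rfl).ab_onto qab (mt (mk_mem A_le).1 hg) (mk_comm (inv_mem hb))
  rw [← map_commutator_of_surjective (QuotientGroup.mk'_surjective _)] at hx
  obtain ⟨x, hx, rfl⟩ := hx
  refine ⟨x, hx, QuotientGroup.eq.1 ?_⟩
  rw [← inv_inj, ← QuotientGroup.mk_inv, ← QuotientGroup.mk_inv, e, commutatorElement_inv]
  rfl

theorem sup : K0 N ⊔ _root_.commutator G = N := by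
  refine le_antisymm (sup_le K0_le h.comm_le) fun n hn => ?_
  obtain ⟨x, hx, e⟩ := h.onto h.not_mem (commutator_mem_commutator (mem_top n) (mem_top g₀))
  have : x⁻¹ * n ∈ K0 N := h.frob h.not_mem (mul_mem (inv_mem (h.comm_le hx)) hn) (by
    have e1 : ⁅x⁻¹ * n, g₀⁆ = x⁻¹ * (⁅n, g₀⁆ * (⁅x, g₀⁆⁻¹ * ⁅n, g₀⁆) * ⁅n, g₀⁆⁻¹) * x⁻¹⁻¹ := by
      simp only [commutatorElement_def]; group
    rw [e1]
    exact Normal.conj_mem inferInstance _ (Normal.conj_mem inferInstance _ e _) _)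
  rw [show n = x * (x⁻¹ * n) by group]
  exact mul_mem (mem_sup_right hx) (mem_sup_left this)

theorem lt : ⁅N, N⁆ < _root_.commutator G := by
  obtain ⟨χ, hχ, k, e⟩ := h.deg
  refine lt_of_le_of_ne (commutator_mono le_top le_top) fun c => h.index_ne ?_
  rw [← e, deg_eq_one_iff_commutator_le hχ]
  exact c ▸ k

theorem index_lt : N.index < (⁅N, N⁆).relIndex (_root_.commutator G) := by
  have : (N.map (QuotientGroup.mk' ⁅N, N⁆)).Normal := (h.quot _ le_rfl).nor
  have := (h.quot _ le_rfl).ab_lt qab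
  rwa [card_comm, index_quot A_le] at this

theorem vanish {θ : N → ℂ} (hθ : IsIrrCharacter N θ) (h1 : charDegree θ ≠ 1) {x : N}
    (hx : (x : G) ∉ K0 N) : θ x = 0 := by
  have : (N.map (QuotientGroup.mk' (K0 N))).Normal := h.nor.map _ (QuotientGroup.mk'_surjective _)
  rcases frob_quot_dichotomy (QuotientGroup.mk' (K0 N)) (N.map (QuotientGroup.mk' (K0 N))) (by
      rintro _ ⟨a, ha, rfl⟩ _ ⟨b, hb, rfl⟩
      exact (commutator_mem_iff_commute _ a b).1 (A_le_K0 (commutator_mem_commutator ha hb))) (by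
      rintro _ ⟨a, ha, rfl⟩ a1 g hg
      obtain ⟨g, rfl⟩ := QuotientGroup.mk_surjective g
      refine (mk_mem K0_le).2 (by_contra fun n => a1 ((QuotientGroup.eq_one_iff a).2 (h.frob n ha ?_)))
      rw [← h.inf]
      exact ⟨(commutator_mem_iff_commute _ a g).2 (mem_centralizer_singleton_iff.1 hg).symm,
        commutator_mem_commutator (mem_top _) (mem_top _)⟩)
    N (fun g => (mk_mem K0_le).symm) hθ with ⟨χ, hχ, e⟩ | ⟨e, -⟩
  · have := h.eq_index hχ (e ▸ dvd_mul_right _ _)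
    rw [e, Nat.mul_eq_left index_ne_zero_of_finite] at this
    exact absurd this h1
  · exact e x (mt (QuotientGroup.eq_one_iff _).1 hx)

theorem cam {x y : G} (hx : x ∈ N) (hx' : x ∉ K0 N) (hy : y ∈ ⁅N, N⁆) : ∃ n ∈ N, ⁅x, n⁆ = y := by
  obtain ⟨c, e⟩ := isConj_iff.1 (isConj_mul_of_forall_eq_zero (_root_.commutator N) (g := ⟨x, hx⟩)
    (fun θ hθ k => h.vanish hθ (mt (deg_eq_one_iff_commutator_le hθ).1 k) hx')
    (n := ⟨y⁻¹, A_le (inv_mem hy)⟩) (Palfy.mem_comm.2 (inv_mem hy)))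
  have e1 : (c : G) * x * (c : G)⁻¹ = y⁻¹ * x := congrArg Subtype.val e
  refine ⟨c, c.2, ?_⟩
  rw [← inv_inj, commutatorElement_inv, commutatorElement_def, e1, mul_inv_cancel_right]

theorem fpf {x y : G} (hx : x ∈ N) (hx' : x ∉ K0 N) (hy : y ∈ ⁅N, N⁆) (c : x * y = y * x)
    (ho : (orderOf x).Coprime (orderOf y)) : y = 1 := by
  obtain ⟨n, -, e⟩ := h.cam hx hx' (inv_mem hy)
  refine eq_one_of_cop ho (pow_eq_one_of_conj (y := x) (isConj_iff.2 ⟨n, ?_⟩) c.symm (pow_orderOf_eq_one x))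
    (pow_orderOf_eq_one y)
  rw [← inv_inv y, ← e, commutatorElement_inv, commutatorElement_def, inv_mul_cancel_right]

omit h in
theorem exists_elt {X Y : Subgroup G} {r : ℕ} (hr : r.Prime) (hd : r ∣ X.relIndex Y) :
    ∃ x ∈ Y, x ∉ X ∧ ∃ k, x ^ r ^ k = 1 := by
  have : Fact r.Prime := ⟨hr⟩
  obtain ⟨P⟩ : Nonempty (Sylow r Y) := inferInstance
  obtain ⟨g, hg, g1⟩ : ∃ g ∈ (P : Subgroup Y), g ∉ X.subgroupOf Y := by
    by_contra! c
    exact P.not_dvd_index (hd.trans (index_dvd_of_le c))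
  obtain ⟨k, hk⟩ := P.2 ⟨g, hg⟩
  exact ⟨g, g.2, g1, k, congrArg (fun x : (P : Subgroup Y) => ((x : Y) : G)) hk⟩

theorem dvd_deg {r : ℕ} (hr : r.Prime) (hd : r ∣ (⁅N, N⁆).relIndex (_root_.commutator G)) {θ : N → ℂ}
    (hθ : IsIrrCharacter N θ) (h1 : charDegree θ ≠ 1) : r ∣ charDegree θ := by
  obtain ⟨x, hx, x1, k, hk⟩ := exists_elt hr hd
  exact dvd_deg_of_eq_zero hr (isCharacter_of_isIrr hθ) (g := ⟨x, h.comm_le hx⟩) (Subtype.ext hk)
    (h.vanish hθ h1 fun c => x1 (h.inf.le ⟨c, hx⟩))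

theorem exists_compl {r : ℕ} (hr : r.Prime) (hd : r ∣ (⁅N, N⁆).relIndex (_root_.commutator G)) :
    ∃ M : Subgroup G, M.Normal ∧ M ≤ N ∧ ¬ r ∣ Nat.card M ∧ ∃ k, M.relIndex N = r ^ k := by
  have : Fact r.Prime := ⟨hr⟩
  have := Transfer.pResidual_characteristic r N
  refine ⟨(pResidual r N).map N.subtype, inferInstance, map_subtype_le _, ?_, ?_⟩
  · rw [card_map_of_injective N.subtype_injective]
    exact not_dvd_card_pResidual hr fun θ hθ h1 => h.dvd_deg hr hd hθ h1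
  · rw [relIndex, subgroupOf, comap_map_eq_self_of_injective N.subtype_injective]
    exact IsPGroup.iff_card.1 Transfer.isPGroup_quotient_pResidual

theorem exists_cop {r : ℕ} (hr : r.Prime) (hd : ¬ r ∣ N.index) :
    ∃ g₁ : G, St N g₁ ∧ (orderOf g₁).Coprime r := by
  obtain ⟨j, k, hk, e⟩ := part hr g₀
  refine ⟨g₀ ^ r ^ j, ⟨h.nd, h.nor, ?_, h.ne, h.deg, h.nil⟩,
    hk.coprime_dvd_left (orderOf_dvd_of_pow_eq_one (by rw [← pow_mul, e]))⟩
  rw [eq_top_iff, ← h.gen]
  exact sup_le le_sup_left (zpowers_le_of_mem (mem_of_cop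
    (Nat.Coprime.pow_left j ((Nat.Prime.coprime_iff_not_dvd hr).2 hd))
    (mem_sup_right (mem_zpowers _)) (mem_sup_left (pow_index_mem N g₀))))

end St

end CfsgLib.LMW
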