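import Mathlib
import Cfsg.Agent.S4396
import Cfsg.Agent.Lib.Palfy.NK

/-! LMW, package FREE: fixed points of a Frobenius complement; regular orbits
(proof: plans/LMW.md, FREE). -/

set_option autoImplicit false

namespace CfsgLib.LMW

open Subgroup MulAction

theorem Free.card_of_free {k T V : Type*} [Field k] [Group T] [Fintype T] [AddCommGroup V] [Module k V]
    {ρ : T →* Module.End k V} (h : Cfsg.Agent.S4396.FreeIn ρ ⊤) :
    Nat.card V = Nat.card {v : V // ∀ t, ρ t v = v} ^ Nat.card T := by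
  classical
  obtain ⟨W, -, h1, h2⟩ := h
  let Φ : (T → W) →+ V :=
    { toFun := fun w => ∑ t, ρ t (w t)
      map_zero' := by simp
      map_add' := fun a b => by simp [Finset.sum_add_distrib] }
  have inj : Function.Injective Φ := (injective_iff_map_eq_zero Φ).2 fun w e =>
    funext fun t => Subtype.ext (h1 (fun t => w t) (fun t => (w t).2) e t)
  have sur : Function.Surjective Φ := fun v => by
    refine Submodule.iSup_induction _ (motive := fun v => v ∈ Φ.range) (h2 Submodule.mem_top) ?_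
      (zero_mem _) fun _ _ => add_mem
    rintro t _ ⟨w, hw, rfl⟩
    refine ⟨Pi.single t ⟨w, hw⟩, (Finset.sum_eq_single t (fun s _ hs => ?_) (by simp)).trans ?_⟩
    · rw [Pi.single_eq_of_ne hs]; exact map_zero _
    · rw [Pi.single_eq_same]
  have act : ∀ t w, ρ t (Φ w) = Φ fun s => w (t⁻¹ * s) := fun t w =>
    (map_sum _ _ _).trans (Fintype.sum_equiv (Equiv.mulLeft t) _ _ fun s => by simp)
  rw [← Nat.card_congr (Equiv.ofBijective Φ ⟨inj, sur⟩), Nat.card_fun]
  congr 1
  refine Nat.card_congr (Equiv.ofBijective (fun w => ⟨Φ fun _ => w, fun t => act t _⟩)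
    ⟨fun a b e => congrFun (inj (congrArg Subtype.val e)) 1, fun ⟨v, hv⟩ => ?_⟩)
  obtain ⟨w, rfl⟩ := sur v
  refine ⟨w 1, Subtype.ext (congrArg Φ (funext fun t => ?_))⟩
  simpa using congrFun (inj ((act t w).symm.trans (hv t))) t

theorem card_eq_fix_pow {H W : Type*} [Group H] [Finite H] [CommGroup W] [Finite W]
    [MulDistribMulAction H W] {q : ℕ} [Fact q.Prime] (hW : ∀ w : W, w ^ q = 1)
    (U T : Subgroup H) [U.Normal] (hq : ¬ q ∣ Nat.card U) (ab : ∀ a ∈ U, ∀ b ∈ U, a * b = b * a)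
    (frob : ∀ h ∈ T, h ≠ 1 → ∀ u ∈ U, h * u = u * h → u = 1)
    (h0 : ∀ w : W, (∀ u ∈ U, u • w = w) → w = 1) :
    Nat.card W = Nat.card (FixedPoints.subgroup T W) ^ Nat.card T := by
  obtain ⟨_⟩ : Nonempty (Module (ZMod q) (Additive W)) := ⟨AddCommGroup.zmodModule fun w => hW w.toMul⟩
  let _ := Fintype.ofFinite T
  have : Module.Finite (ZMod q) (Additive W) := Module.Finite.of_finite
  exact Free.card_of_free (k := ZMod q) (V := Additive W)
    (Cfsg.Agent.S4396.free_comm (H := T) (Palfy.rep q H W) (Z := U)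
    (by rwa [Ne, ZMod.natCast_eq_zero_iff])
    (fun h hh h1 => eq_bot_iff.2 fun u hu =>
      frob h hh h1 u hu.1 (mem_centralizer_singleton_iff.1 hu.2).symm)
    (fun x hx y hy => by rw [← map_mul, ab x hx y hy, map_mul]) (fun _ _ _ => trivial)
    fun v _ hv => h0 v.toMul hv)

theorem reg {G W : Type*} [Group G] [Finite G] [CommGroup W] [MulDistribMulAction G W]
    (Λ : Subgroup W) (inv : ∀ g : G, ∀ w ∈ Λ, g • w ∈ Λ)
    (comm : ∀ g h : G, ∀ w ∈ Λ, g • h • w = h • g • w) {n m : ℕ}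
    (hn : ∀ g : G, ∀ w ∈ Λ, g ^ n • w = w) (hm : ∀ w ∈ Λ, w ^ m = 1) (cop : n.Coprime m) :
    ∃ w ∈ Λ, ∀ w' ∈ Λ, stabilizer G w ≤ stabilizer G w' := by
  have key : ∀ g : G, ∀ w ∈ Λ, g • (g • w * w⁻¹) = g • w * w⁻¹ → g • w * w⁻¹ = 1 := fun g w hw e => by
    have h1 : ∀ i : ℕ, g ^ i • w = (g • w * w⁻¹) ^ i * w := fun i => by
      induction i with
      | zero => simp
      | succ i ih => rw [pow_succ', mul_smul, ih, smul_mul', smul_pow', e, pow_succ, mul_assoc,
          inv_mul_cancel_right]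
    exact orderOf_eq_one_iff.1 (Nat.eq_one_of_dvd_coprimes cop
      (orderOf_dvd_of_pow_eq_one (mul_eq_right.1 ((h1 n).symm.trans (hn g w hw))))
      (orderOf_dvd_of_pow_eq_one (hm _ (mul_mem (inv g w hw) (inv_mem hw)))))
  obtain ⟨_, ⟨w, hw, rfl⟩, mn⟩ := (wellFounded_lt (α := Subgroup G)).has_min
    {S | ∃ w ∈ Λ, stabilizer G w = S} ⟨_, 1, one_mem _, rfl⟩
  refine ⟨w, hw, fun w' hw' c hc => by_contra fun n => ?_⟩
  have c1 : c • w = w := hc
  refine mn _ ⟨w * (c • w' * w'⁻¹), mul_mem hw (mul_mem (inv c w' hw') (inv_mem hw')), rfl⟩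
    (lt_of_le_of_ne (fun g hg => ?_) fun e => n (mul_inv_eq_one.1 (key c w' hw' ?_)))
  · have g1 : g • w * g • (c • w' * w'⁻¹) = w * (c • w' * w'⁻¹) := (smul_mul' _ _ _).symm.trans hg
    have e : c • (g • w' * w'⁻¹) * (g • w' * w'⁻¹)⁻¹ = (g • w * w⁻¹)⁻¹ := by
      rw [smul_mul', smul_inv', comm g c w' hw'] at g1
      rw [smul_mul', smul_inv']
      apply Additive.ofMul.injective
      replace g1 := congrArg Additive.ofMul g1
      simp only [ofMul_mul, ofMul_inv] at g1 ⊢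
      linear_combination (norm := abel) g1
    have := key c _ (mul_mem (inv g w' hw') (inv_mem hw')) (by
      rw [e, smul_inv', smul_mul', smul_inv', comm c g w hw, c1])
    rwa [e, inv_eq_one, mul_inv_eq_one] at this
  · have g1 : c • (w * (c • w' * w'⁻¹)) = _ := e.ge hc
    rwa [smul_mul', c1, mul_right_inj] at g1

end CfsgLib.LMW
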