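import Mathlib
import Cfsg.Agent.Lib.LMW.Fld
import Cfsg.Agent.Lib.LMW.Free

/-! LMW, package CNT: the counting lemma (proof: plans/LMW.md, CNT). -/

set_option autoImplicit false
set_option linter.unusedSectionVars false

namespace CfsgLib.LMW

open Subgroup MulAction
open scoped commutatorElement

namespace Cnt

theorem fixp {G X : Type*} [Group G] [MulAction G X] [Finite X] {p : ℕ} [Fact p.Prime] {g : G} (hg : g ^ p = 1)
    (hp : p ∣ Nat.card X) {a : X} (ha : g • a = a) : ∃ b, b ≠ a ∧ g • b = b := by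
  have h1 : IsPGroup p (zpowers g) := fun ⟨_, k, rfl⟩ => ⟨1, Subtype.ext (by
    show (g ^ k) ^ p ^ 1 = 1
    rw [pow_one, ← zpow_natCast, ← zpow_mul, mul_comm, zpow_mul, zpow_natCast, hg, one_zpow])⟩
  obtain ⟨b, h2, h3⟩ := h1.exists_fixed_point_of_prime_dvd_card_of_fixed_point X hp (a := a)
    fun m => zpowers_le.2 (mem_stabilizer_iff.2 ha) m.2
  exact ⟨b, h3.symm, h2 ⟨g, mem_zpowers g⟩⟩

theorem mem_cyc {Q : Type*} [Group Q] [Finite Q] [IsCyclic Q] {A : Subgroup Q} {x : Q}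
    (hx : x ^ Nat.card A = 1) : x ∈ A := by
  classical
  have := Fintype.ofFinite Q
  have h1 : (A : Set Q).toFinset = Finset.univ.filter fun a : Q => a ^ Nat.card A = 1 :=
    Finset.eq_of_subset_of_card_le (fun a ha => Finset.mem_filter.2 ⟨Finset.mem_univ _,
      congrArg Subtype.val (pow_card_eq_one' (x := (⟨a, Set.mem_toFinset.1 ha⟩ : A)))⟩)
      ((IsCyclic.card_pow_eq_one_le Nat.card_pos).trans (by rw [Set.toFinset_card, Nat.card_eq_fintype_card]; rfl))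
  exact Set.mem_toFinset.1 (h1 ▸ Finset.mem_filter.2 ⟨Finset.mem_univ _, hx⟩ : x ∈ (A : Set Q).toFinset)

theorem surj {H : Type*} [Group H] [Finite H] {U : Subgroup H} [U.Normal] {b : H}
    (hf : ∀ y ∈ U, b * y = y * b → y = 1) {y : H} (hy : y ∈ U) : ∃ u ∈ U, y * b = u * b * u⁻¹ := by
  let f : U → U := fun u => ⟨u * (b * (u : H)⁻¹ * b⁻¹), mul_mem u.2 (Normal.conj_mem ‹_› _ (inv_mem u.2) b)⟩
  have : Function.Injective f := fun u v e => by
    have e1 : (u : H) * (b * (u : H)⁻¹ * b⁻¹) = v * (b * (v : H)⁻¹ * b⁻¹) := congrArg Subtype.val e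
    refine Subtype.ext (inv_mul_eq_one.1 (hf _ (mul_mem (inv_mem v.2) u.2) ?_)).symm
    calc b * ((v : H)⁻¹ * u) = (v : H)⁻¹ * (v * (b * (v : H)⁻¹ * b⁻¹)) * b * u := by group
      _ = _ := by rw [← e1]; group
  obtain ⟨u, hu⟩ := Finite.injective_iff_surjective.1 this ⟨y, hy⟩
  exact ⟨u, u.2, by rw [← show (u : H) * (b * (u : H)⁻¹ * b⁻¹) = y from congrArg Subtype.val hu]; group⟩

variable {H : Type*} [Group H]

/-- the hypotheses -/
structure Hy (W : Type*) [CommGroup W] [MulDistribMulAction H W] (q : ℕ) (Γ U K : Subgroup H) (h₀ : H) : Prop where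
  hW : ∀ w : W, w ^ q = 1
  hK : K ≤ center H
  sup : U ⊔ K = Γ
  U1 : U ≠ ⊥
  ab : ∀ a ∈ U, ∀ b ∈ U, a * b = b * a
  cm : _root_.commutator H ≤ U
  gen : Γ ⊔ zpowers h₀ = ⊤
  ne : Γ ≠ ⊤
  frob : ∀ h, h ∉ Γ → ∀ u ∈ U, h * u = u * h → u = 1
  semi : ∀ g ∈ Γ, ∀ w : W, g • w = w → g = 1 ∨ w = 1
  nd1 : ∀ w : W, w ≠ 1 → Γ.index ∣ (stabilizer H w).index → (stabilizer H w).index = Γ.index
  nd2 : ∀ w w' : W, w ≠ 1 → w' ≠ 1 → (stabilizer H w).index ∣ (stabilizer H w').index →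
      (stabilizer H w).index = (stabilizer H w').index

/-- `⟨g⟩` meets `Γ` trivially -/
def T (Γ : Subgroup H) (g : H) : Prop := ∀ x ∈ zpowers g, x ∈ Γ → x = 1

/-- the number of fixed points -/
noncomputable def y (W : Type*) [CommGroup W] [MulDistribMulAction H W] (g : H) : ℕ := Nat.card {w : W // g • w = w}

variable [Finite H] {W : Type*} [CommGroup W] [Finite W] [Nontrivial W] [MulDistribMulAction H W] {q : ℕ}
  [Fact q.Prime] {Γ U K : Subgroup H} [Γ.Normal] [U.Normal] {h₀ g d t : H} {w : W}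

theorem T_iff : T Γ g ↔ orderOf (g : H ⧸ Γ) = orderOf g := by
  refine ⟨fun h => orderOf_eq_orderOf_iff.2 fun n => ⟨fun k => h _ (pow_mem (mem_zpowers g) n)
    ((QuotientGroup.eq_one_iff _).1 k), fun k => by rw [← QuotientGroup.mk_pow, k]; rfl⟩, ?_⟩
  rintro h _ ⟨n, rfl⟩ k
  rw [← orderOf_dvd_iff_zpow_eq_one, ← h, orderOf_dvd_iff_zpow_eq_one]
  exact (QuotientGroup.eq_one_iff _).2 k

theorem sne (g : H) (w1 : w ≠ 1) : g • w ≠ 1 := fun e => w1 (by rw [← inv_smul_smul g w, e, smul_one])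

theorem y_sub [Fintype W] [DecidableEq W] (g : H) :
    (Finset.univ.filter fun w : W => g • w = w ∧ w ≠ 1).card + 1 = y W g := by
  rw [y, Nat.card_eq_fintype_card, Fintype.card_subtype, ← Finset.card_erase_add_one
    (a := 1) (s := Finset.univ.filter fun w : W => g • w = w) (by simp)]
  congr 2
  ext w
  simp [and_comm]

namespace Hy

variable (h : Hy W q Γ U K h₀)
include h

theorem UΓ : U ≤ Γ := h.sup ▸ le_sup_left

theorem KΓ : K ≤ Γ := h.sup ▸ le_sup_right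

theorem kc {k : H} (hk : k ∈ K) (g : H) : Commute g k := mem_center_iff.1 (h.hK hk) g

theorem decΓ (hg : g ∈ Γ) : ∃ u ∈ U, ∃ k ∈ K, u * k = g := by
  rw [← h.sup, ← SetLike.mem_coe, normal_mul] at hg
  exact hg

theorem dec (g : H) : ∃ u ∈ U, ∃ k ∈ K, ∃ j : ℤ, g = u * (k * h₀ ^ j) := by
  have : g ∈ ((Γ ⊔ zpowers h₀ : Subgroup H) : Set H) := by rw [h.gen]; trivial
  rw [normal_mul] at this
  obtain ⟨a, ha, _, ⟨j, rfl⟩, rfl⟩ := this
  obtain ⟨u, hu, k, hk, rfl⟩ := h.decΓ ha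
  exact ⟨u, hu, k, hk, j, mul_assoc _ _ _⟩

theorem h0 : h₀ ∉ Γ := fun e => h.ne (by rw [← h.gen, sup_eq_left.2 (zpowers_le_of_mem e)])

theorem decD (hd : Commute d h₀) (d0 : d ∉ Γ) (hg : Commute g d) : ∃ k ∈ K, ∃ j : ℤ, g = k * h₀ ^ j := by
  obtain ⟨u, hu, k, hk, j, rfl⟩ := h.dec g
  have : Commute (u * (k * h₀ ^ j) * (k * h₀ ^ j)⁻¹) d :=
    hg.mul_left ((h.kc hk d).symm.mul_left (hd.symm.zpow_left j)).inv_left
  rw [mul_inv_cancel_right] at this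
  exact ⟨k, hk, j, by rw [h.frob d d0 u hu this.symm, one_mul]⟩

theorem D_of (hd : Commute d h₀) (d0 : d ∉ Γ) (hg : Commute g d) : Commute g h₀ := by
  obtain ⟨k, hk, j, rfl⟩ := h.decD hd d0 hg
  exact (h.kc hk h₀).symm.mul_left ((Commute.refl h₀).zpow_left j)

theorem D_comm (hd : Commute d h₀) (hg : Commute g h₀) : Commute g d := by
  obtain ⟨k, hk, j, rfl⟩ := h.decD (Commute.refl h₀) h.h0 hg
  exact (h.kc hk d).symm.mul_left (hd.symm.zpow_left j)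

theorem K_of (hg : Commute g h₀) (g0 : g ∈ Γ) : g ∈ K := by
  obtain ⟨u, hu, k, hk, rfl⟩ := h.decΓ g0
  have : Commute (u * k * k⁻¹) h₀ := hg.mul_left (h.kc hk h₀).symm.inv_left
  rw [mul_inv_cancel_right] at this
  rwa [h.frob h₀ h.h0 u hu this.symm, one_mul]

theorem conjD (g0 : g ∉ Γ) : ∃ v ∈ U, ∃ d, Commute d h₀ ∧ d ∉ Γ ∧ g = v * d * v⁻¹ := by
  obtain ⟨u, hu, k, hk, j, rfl⟩ := h.dec g
  have d0 : k * h₀ ^ j ∉ Γ := fun e => g0 (mul_mem (h.UΓ hu) e)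
  obtain ⟨v, hv, e⟩ := surj (h.frob _ d0) hu
  exact ⟨v, hv, _, (h.kc hk h₀).symm.mul_left ((Commute.refl h₀).zpow_left j), d0, e⟩

theorem ord0 : orderOf (h₀ : H ⧸ Γ) = Γ.index := by
  refine orderOf_eq_card_of_forall_mem_zpowers fun a => ?_
  obtain ⟨a, rfl⟩ := QuotientGroup.mk_surjective a
  obtain ⟨u, hu, k, hk, j, rfl⟩ := h.dec a
  exact ⟨j, by simp [(QuotientGroup.eq_one_iff _).2 (h.UΓ hu), (QuotientGroup.eq_one_iff _).2 (h.KΓ hk)]⟩

theorem cyc : IsCyclic (H ⧸ Γ) := isCyclic_of_orderOf_eq_card _ h.ord0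

theorem triv (w1 : w ≠ 1) (hg : g • w = w) (g0 : g ∈ Γ) : g = 1 := (h.semi g g0 w hg).resolve_right w1

theorem T_of (w1 : w ≠ 1) (hg : g • w = w) : T Γ g := fun _ hx =>
  h.triv w1 (zpowers_le.2 (mem_stabilizer_iff.2 hg) hx)

theorem nq : ¬ q ∣ Nat.card U := fun k => by
  obtain ⟨u, hu⟩ := exists_prime_orderOf_dvd_card' q k
  obtain ⟨a, ha⟩ := exists_ne (1 : W)
  obtain ⟨b, h1, h2⟩ := fixp (X := W) (g := (u : H)) (p := q) (by rw [← hu]; exact_mod_cast pow_orderOf_eq_one u)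
    (orderOf_eq_prime (h.hW a) ha ▸ orderOf_dvd_natCard a) (smul_one _)
  rw [show u = 1 from Subtype.ext (h.triv h1 h2 (h.UΓ u.2)), orderOf_one] at hu
  exact (Fact.out : q.Prime).one_lt.ne hu

theorem pow_y (hg : T Γ g) : Nat.card W = y W g ^ orderOf g := by
  rw [card_eq_fix_pow h.hW U (zpowers g) h.nq h.ab (fun x hx x1 => h.frob x fun k => x1 (hg x hx k))
    (fun w hw => by_contra fun w1 => h.U1 ((eq_bot_iff_forall U).2 fun u hu => h.triv w1 (hw u hu) (h.UΓ hu))),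
    Nat.card_zpowers]
  congr 1
  exact Nat.card_congr (Equiv.subtypeEquivRight fun w => ⟨fun k => k ⟨g, mem_zpowers g⟩,
    fun k m => zpowers_le.2 (mem_stabilizer_iff.2 k) m.2⟩)

theorem y_lt (hg : T Γ g) : 1 < y W g := by
  have h1 := h.pow_y hg
  have h2 : 1 < Nat.card W := Finite.one_lt_card
  by_contra! k
  rw [h1] at h2
  exact absurd (pow_le_one₀ (Nat.zero_le _) k) h2.not_ge

theorem exists_fix (hg : T Γ g) : ∃ w : W, w ≠ 1 ∧ g • w = w := by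
  have := Finite.one_lt_card_iff_nontrivial.1 (h.y_lt hg)
  obtain ⟨w, hw⟩ := exists_ne (⟨1, smul_one g⟩ : {w : W // g • w = w})
  exact ⟨w, fun e => hw (Subtype.ext e), w.2⟩

theorem inj (w1 : w ≠ 1) : Function.Injective ((QuotientGroup.mk' Γ).comp (stabilizer H w).subtype) :=
  (injective_iff_map_eq_one _).2 fun a ha => Subtype.ext (h.triv w1 a.2 ((QuotientGroup.eq_one_iff _).1 ha))

theorem nf (w1 : w ≠ 1) : ¬ Γ.index ∣ (stabilizer H w).index := fun k => by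
  have e := (stabilizer H w).card_mul_index
  rw [h.nd1 w w1 k, ← Γ.card_mul_index] at e
  obtain ⟨p, hp, h1⟩ := Nat.exists_prime_and_dvd (mt card_eq_one.1 h.U1)
  have := Fact.mk hp
  obtain ⟨a, ha⟩ := exists_prime_orderOf_dvd_card' (G := stabilizer H w) p
    (Nat.eq_of_mul_eq_mul_right (Nat.pos_of_ne_zero index_ne_zero_of_finite) e ▸ h1.trans (card_dvd_of_le h.UΓ))
  have a0 : (a : H) ∉ Γ := fun k => hp.one_lt.ne (by
    rw [← ha, show a = 1 from Subtype.ext (h.triv w1 a.2 k), orderOf_one])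
  obtain ⟨b, h2, h3⟩ := fixp (G := MulAut U) (X := U) (g := MulAut.conjNormal (a : H)) (p := p) (a := 1) (by
    rw [← map_pow, ← ha, show (a : H) ^ orderOf a = 1 by exact_mod_cast pow_orderOf_eq_one a, map_one]) h1
    (smul_one _)
  exact h2 (Subtype.ext (h.frob a a0 b b.2 (mul_inv_eq_iff_eq_mul.1 (congrArg Subtype.val h3))))

theorem gen_w (w1 : w ≠ 1) : ∃ g : H, g • w = w ∧ g ∉ Γ ∧ orderOf g = Nat.card (stabilizer H w) := by
  have := h.cyc
  obtain ⟨g, hg⟩ := (isCyclic_of_injective _ (h.inj w1)).exists_ofOrder_eq_natCard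
  refine ⟨g, g.2, fun k => h.nf w1 ?_, by rw [← hg, orderOf_coe]⟩
  rw [show g = 1 from Subtype.ext (h.triv w1 g.2 k), orderOf_one, eq_comm, card_eq_one] at hg
  rw [hg, index_bot]
  exact index_dvd_card Γ

theorem gen_D (w1 : w ≠ 1) : ∃ v ∈ U, ∃ d, Commute d h₀ ∧ d ∉ Γ ∧ d • v⁻¹ • w = v⁻¹ • w ∧
    orderOf d = Nat.card (stabilizer H w) := by
  obtain ⟨g, h1, h2, h3⟩ := h.gen_w w1
  obtain ⟨v, hv, d, h4, h5, rfl⟩ := h.conjD h2
  refine ⟨v, hv, d, h4, h5, ?_, h3 ▸ ((MulAut.conj v).orderOf_eq d).symm⟩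
  rw [eq_inv_smul_iff, ← mul_smul, ← mul_smul, h1]

theorem const : ∃ t, Commute t h₀ ∧ t ∉ Γ ∧ T Γ t ∧ ∀ w : W, w ≠ 1 → Nat.card (stabilizer H w) = orderOf t := by
  obtain ⟨a, ha⟩ := exists_ne (1 : W)
  obtain ⟨w₀, w0, hm⟩ := Set.exists_max_image {w : W | w ≠ 1} (fun w => Nat.card (stabilizer H w))
    (Set.toFinite _) ⟨a, ha⟩
  obtain ⟨v, -, t, t1, t2, t3, t4⟩ := h.gen_D w0
  have t5 := h.T_of (sne _ w0) t3
  refine ⟨t, t1, t2, t5, fun w w1 => ?_⟩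
  obtain ⟨v', -, d, d1, -, d3, d4⟩ := h.gen_D w1
  have d5 := h.T_of (sne _ w1) d3
  have c := h.D_comm d1 t1
  have e1 := c.orderOf_mul_pow_eq_lcm (orderOf_pos t).ne' (orderOf_pos d).ne'
  have e2 := (c.map (QuotientGroup.mk' Γ)).orderOf_mul_pow_eq_lcm (orderOf_pos _).ne' (orderOf_pos _).ne'
  rw [QuotientGroup.mk'_apply, QuotientGroup.mk'_apply, T_iff.1 t5, T_iff.1 d5, ← QuotientGroup.mk_pow,
    ← QuotientGroup.mk_pow, ← QuotientGroup.mk_mul, ← e1] at e2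
  obtain ⟨w', w2, w3⟩ := h.exists_fix (T_iff.2 e2)
  have e3 := Nat.le_of_dvd Nat.card_pos (e1 ▸ orderOf_dvd_natCard _ (mem_stabilizer_iff.2 w3))
  have e4 : (orderOf t).lcm (orderOf d) = orderOf t :=
    le_antisymm (t4 ▸ e3.trans (hm w' w2)) (Nat.le_of_dvd (e1 ▸ orderOf_pos _) (Nat.dvd_lcm_left _ _))
  have e5 := (stabilizer H w₀).card_mul_index.trans (stabilizer H w).card_mul_index.symm
  obtain ⟨m, e6⟩ := e4 ▸ Nat.dvd_lcm_right (orderOf t) (orderOf d)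
  have e7 := e5
  rw [← t4, e6, d4, mul_assoc] at e7
  rw [h.nd2 w₀ w w0 w1 (Dvd.intro_left m (Nat.eq_of_mul_eq_mul_left Nat.card_pos e7))] at e5
  exact (Nat.eq_of_mul_eq_mul_right (Nat.pos_of_ne_zero index_ne_zero_of_finite) e5).symm.trans t4.symm

variable (t1 : Commute t h₀) (t2 : t ∉ Γ) (t3 : T Γ t)
  (t4 : ∀ w : W, w ≠ 1 → Nat.card (stabilizer H w) = orderOf t)
include t1 t4

theorem exists_k (w1 : w ≠ 1) (hd : Commute d h₀) (d0 : d ∉ Γ) (dw : d • w = w) :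
    ∃ k ∈ K, (t * k) • w = w := by
  have := h.cyc
  obtain ⟨g, hg⟩ : (t : H ⧸ Γ) ∈ ((QuotientGroup.mk' Γ).comp (stabilizer H w).subtype).range := mem_cyc (by
    rw [← Nat.card_congr (MonoidHom.ofInjective (h.inj w1)).toEquiv, t4 w w1, ← QuotientGroup.mk_pow,
      pow_orderOf_eq_one]; rfl)
  have c : Commute (g : H) d := commutatorElement_eq_one_iff_commute.1 (h.triv w1
    (mem_stabilizer_iff.1 (commutator_le_self _ (commutator_mem_commutator g.2 (mem_stabilizer_iff.2 dw))))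
    (h.UΓ (h.cm (commutator_mem_commutator (mem_top _) (mem_top _)))))
  exact ⟨t⁻¹ * g, h.K_of (t1.inv_left.mul_left (h.D_of hd d0 c)) (QuotientGroup.eq.1 hg.symm),
    by rw [mul_inv_cancel_left]; exact g.2⟩

include t2 t3

theorem prime : (orderOf t).Prime := by
  classical
  have := Fintype.ofFinite W
  have c1 : orderOf t ≠ 1 := fun e => t2 (orderOf_eq_one_iff.1 e ▸ one_mem _)
  by_contra np
  obtain ⟨n, e⟩ := Nat.minFac_dvd (orderOf t)
  have sp := Nat.minFac_prime c1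
  generalize (orderOf t).minFac = s at e sp
  have n0 : n ≠ 0 := fun k => (orderOf_pos t).ne' (by rw [e, k, mul_zero])
  have n2 : 2 ≤ n := by
    by_contra! k
    exact np (by rwa [e, show n = 1 by omega, mul_one])
  have o1 : orderOf (t ^ n) = s := by
    rw [orderOf_pow_of_dvd n0 (Dvd.intro_left s e.symm), e, Nat.mul_div_cancel _ (Nat.pos_of_ne_zero n0)]
  have d0 : t ^ n ∉ Γ := fun k => sp.one_lt.ne' (by rw [← o1, t3 _ (pow_mem (mem_zpowers t) n) k, orderOf_one])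
  have e1 := h.pow_y (g := t ^ n) fun x hx => t3 x (zpowers_le.2 (pow_mem (mem_zpowers t) n) hx)
  rw [h.pow_y t3, e, mul_comm, pow_mul, o1] at e1
  have e2 := Nat.pow_left_injective sp.ne_zero e1
  have y1 := h.y_lt t3
  have k1 : (Finset.univ.filter fun w : W => t ^ n • w = w ∧ w ≠ 1) ⊆ (Set.toFinite (K : Set H)).toFinset.biUnion
      fun k => Finset.univ.filter fun w : W => (t * k) • w = w ∧ w ≠ 1 := fun w hw => by
    obtain ⟨-, w1, w2⟩ := Finset.mem_filter.1 hw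
    obtain ⟨k, hk, k2⟩ := h.exists_k t1 t4 w2 (t1.pow_left n) d0 w1
    exact Finset.mem_biUnion.2 ⟨k, (Set.Finite.mem_toFinset _).2 hk, Finset.mem_filter.2 ⟨Finset.mem_univ _, k2, w2⟩⟩
  have k2 := (Finset.card_le_card k1).trans (Finset.card_biUnion_le_card_mul _ _ (y W t - 1) fun k hk => by
    rcases (Finset.univ.filter fun w : W => (t * k) • w = w ∧ w ≠ 1).eq_empty_or_nonempty with e | ⟨w, hw⟩
    · rw [e]; exact Nat.zero_le _
    obtain ⟨-, w1, w2⟩ := Finset.mem_filter.1 hw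
    have a1 := h.T_of w2 w1
    have a2 := h.pow_y a1
    rw [← T_iff.1 a1, QuotientGroup.mk_mul, (QuotientGroup.eq_one_iff k).2 (h.KΓ ((Set.Finite.mem_toFinset _).1 hk)),
      mul_one, T_iff.1 t3, h.pow_y t3] at a2
    rw [Nat.pow_left_injective (orderOf_pos t).ne' a2, ← y_sub, Nat.add_sub_cancel])
  obtain ⟨w, w1, w2⟩ := h.exists_fix t3
  have k3 : (Set.toFinite (K : Set H)).toFinset.card ≤
      (Finset.univ.filter fun w : W => t • w = w ∧ w ≠ 1).card :=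
    Finset.card_le_card_of_injOn (fun k => k • w) (fun k hk => Finset.mem_filter.2 ⟨Finset.mem_univ _, by
      rw [← mul_smul, (h.kc ((Set.Finite.mem_toFinset _).1 hk) t).eq, mul_smul, w2],
      sne _ w1⟩) fun k hk k' hk' e => (inv_mul_eq_one.1 (h.triv w1
        (by rw [mul_smul, inv_smul_eq_iff]; exact e) (h.KΓ (mul_mem (inv_mem ((Set.Finite.mem_toFinset _).1 hk'))
          ((Set.Finite.mem_toFinset _).1 hk))))).symm
  have k4 := y_sub (W := W) t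
  have k5 := y_sub (W := W) (t ^ n)
  have k6 := Nat.pow_le_pow_right (by omega : 0 < y W t) n2
  have k7 := k2.trans (Nat.mul_le_mul_right _ k3)
  rw [← k4, Nat.add_sub_cancel] at k7
  rw [e2, ← k5, ← k4] at k6
  rw [← k4] at y1
  nlinarith

theorem nd : ¬ orderOf t ∣ Nat.card Γ := fun ⟨m, k⟩ => by
  obtain ⟨a, ha⟩ := exists_ne (1 : W)
  have e := (stabilizer H a).card_mul_index
  rw [t4 a ha, ← Γ.card_mul_index, k, mul_assoc] at e
  exact h.nf ha (Dvd.intro_left m (Nat.eq_of_mul_eq_mul_left (orderOf_pos t) e).symm)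

theorem eq_one {n : ℕ} (hg : g ∈ Γ) (e : g ^ orderOf t ^ n = 1) : g = 1 :=
  orderOf_eq_one_iff.1 (Nat.eq_one_of_dvd_coprimes (Nat.Coprime.pow_left n
    ((h.prime t1 t2 t3 t4).coprime_iff_not_dvd.2 (h.nd t1 t2 t3 t4))) (orderOf_dvd_of_pow_eq_one e)
    (orderOf_dvd_natCard _ hg))

theorem nsq : ¬ orderOf t * orderOf t ∣ Γ.index := fun k => by
  have sp := h.prime t1 t2 t3 t4
  obtain ⟨a, m, hm, e⟩ := Nat.exists_eq_pow_mul_and_not_dvd (orderOf_pos h₀).ne' _ sp.ne_one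
  have e1 : (h₀ ^ m) ^ orderOf t ^ a = 1 := by rw [← pow_mul, mul_comm, ← e, pow_orderOf_eq_one]
  obtain ⟨w, w1, w2⟩ := h.exists_fix (g := h₀ ^ m) (by
    rintro _ ⟨j, rfl⟩ k
    refine h.eq_one t1 t2 t3 t4 (n := a) k ?_
    rw [← zpow_natCast, ← zpow_mul, mul_comm, zpow_mul, zpow_natCast, e1, one_zpow])
  have e2 := orderOf_dvd_iff_pow_eq_one.1 (t4 w w1 ▸ orderOf_dvd_natCard _ (mem_stabilizer_iff.2 w2))
  rw [← pow_mul] at e2
  refine hm (Nat.dvd_of_mul_dvd_mul_right (orderOf_pos t) (k.trans ?_))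
  rw [← h.ord0, orderOf_dvd_iff_pow_eq_one, ← QuotientGroup.mk_pow, e2]; rfl

theorem count : Nat.card W - 1 = Nat.card U * (y W t - 1) := by
  classical
  have := Fintype.ofFinite W
  have := Fintype.ofFinite H
  have e := y_sub (W := W) (1 : H)
  rw [y, Nat.card_congr (Equiv.subtypeUnivEquiv fun w : W => one_smul H w)] at e
  rw [← e, ← y_sub, Nat.add_sub_cancel, Nat.add_sub_cancel, Nat.card_eq_fintype_card, ← Finset.card_univ,
    ← Finset.card_product, eq_comm]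
  refine Finset.card_bij (fun p _ => (p.1 : H) • p.2) (fun p hp => Finset.mem_filter.2 ⟨Finset.mem_univ _,
    one_smul _ _, sne _ (Finset.mem_filter.1 (Finset.mem_product.1 hp).2).2.2⟩) ?_ ?_
  · rintro ⟨v, w⟩ hp ⟨v', w'⟩ hp' e
    obtain ⟨-, a1, a2⟩ := Finset.mem_filter.1 (Finset.mem_product.1 hp).2
    obtain ⟨-, b1, -⟩ := Finset.mem_filter.1 (Finset.mem_product.1 hp').2
    simp only at e a1 a2 b1
    have e1 : ((v'⁻¹ * v : U) : H) • w = w' := by rw [coe_mul, mul_smul, e, coe_inv, inv_smul_smul]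
    generalize hu : v'⁻¹ * v = u at e1
    have e2 := h.triv (g := t⁻¹ * (u : H)⁻¹ * t⁻¹⁻¹ * u) a2 (by
      rw [inv_inv, mul_smul, e1, mul_smul, b1, mul_smul, ← e1, inv_smul_smul, inv_smul_eq_iff, a1])
      (h.UΓ (mul_mem (Normal.conj_mem ‹_› _ (inv_mem u.2) _) u.2))
    have e3 : (u : H) = 1 := h.frob t t2 u u.2 (by
      calc t * u = u * t * (t⁻¹ * (u : H)⁻¹ * t⁻¹⁻¹ * u) := by group
        _ = _ := by rw [e2, mul_one])
    rw [e3, one_smul] at e1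
    exact Prod.ext (inv_mul_eq_one.1 (hu.trans (Subtype.ext e3))).symm e1
  · intro w hw
    have w1 := (Finset.mem_filter.1 hw).2.2
    obtain ⟨v, hv, d, d1, d2, d3, -⟩ := h.gen_D w1
    have w2 : v⁻¹ • w ≠ 1 := sne _ w1
    obtain ⟨k, hk, k1⟩ := h.exists_k t1 t4 w2 d1 d2 d3
    have k2 := orderOf_dvd_iff_pow_eq_one.1 (t4 _ w2 ▸ orderOf_dvd_natCard _ (mem_stabilizer_iff.2 k1))
    rw [(h.kc hk t).mul_pow, pow_orderOf_eq_one, one_mul, ← pow_one (orderOf t)] at k2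
    rw [h.eq_one t1 t2 t3 t4 (h.KΓ hk) k2, mul_one] at k1
    exact ⟨(⟨v, hv⟩, v⁻¹ • w), Finset.mem_product.2 ⟨Finset.mem_univ _,
      Finset.mem_filter.2 ⟨Finset.mem_univ _, k1, w2⟩⟩, smul_inv_smul v w⟩

theorem main : Γ.index.Prime := by
  have sp := h.prime t1 t2 t3 t4
  obtain ⟨m, e⟩ : orderOf t ∣ Γ.index := T_iff.1 t3 ▸ _root_.orderOf_dvd_natCard (t : H ⧸ Γ)
  by_cases m1 : m = 1
  · rwa [e, m1, mul_one]
  obtain ⟨s, hs, n, rfl⟩ := Nat.exists_prime_and_dvd m1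
  have f0 : Γ.index ≠ 0 := index_ne_zero_of_finite
  have e1 : Γ.index = orderOf t * n * s := by rw [e]; ring
  refine (fld (W := W) (d := h₀ ^ (orderOf t * n)) Γ U h.UΓ h.U1 (fun g hg u hu => ?_) h.frob
    (fun u hu => h.semi u (h.UΓ hu)) sp hs (fun k => h.nsq t1 t2 t3 t4 ⟨n, by rw [e, ← k, mul_assoc]⟩) t2
    (by rw [pow_orderOf_eq_one]; exact one_mem _) (fun k => ?_) ?_ (t1.pow_right _) (h.y_lt t3)
    (h.count t1 t2 t3 t4)).elim
  · obtain ⟨a, ha, k, hk, rfl⟩ := h.decΓ hg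
    exact Commute.mul_left (h.ab a ha u hu) (h.kc hk u).symm
  · rw [← QuotientGroup.eq_one_iff, QuotientGroup.mk_pow, ← orderOf_dvd_iff_pow_eq_one, h.ord0, e1] at k
    have p0 : 0 < orderOf t * n := Nat.pos_of_ne_zero (left_ne_zero_of_mul (e1 ▸ f0))
    exact absurd (Nat.le_of_dvd p0 k) (lt_mul_of_one_lt_right p0 hs.one_lt).not_ge
  · rw [← pow_mul, ← e1]
    exact Γ.pow_index_mem h₀

end Hy

end Cnt

set_option linter.unusedVariables false in
theorem cnt {H W : Type*} [Group H] [Finite H] [CommGroup W] [Finite W] [Nontrivial W]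
    [MulDistribMulAction H W] {q : ℕ} [Fact q.Prime] (hW : ∀ w : W, w ^ q = 1)
    (Γ U K : Subgroup H) [Γ.Normal] [U.Normal] (hK : K ≤ center H) (sup : U ⊔ K = Γ)
    (inf : U ⊓ K = ⊥) (U1 : U ≠ ⊥) (ab : ∀ a ∈ U, ∀ b ∈ U, a * b = b * a)
    (cm : _root_.commutator H ≤ U) {h₀ : H} (gen : Γ ⊔ zpowers h₀ = ⊤) (ne : Γ ≠ ⊤)
    (frob : ∀ h, h ∉ Γ → ∀ u ∈ U, h * u = u * h → u = 1)
    (semi : ∀ g ∈ Γ, ∀ w : W, g • w = w → g = 1 ∨ w = 1)
    (nd1 : ∀ w : W, w ≠ 1 → Γ.index ∣ (stabilizer H w).index → (stabilizer H w).index = Γ.index)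
    (nd2 : ∀ w w' : W, w ≠ 1 → w' ≠ 1 → (stabilizer H w).index ∣ (stabilizer H w').index →
      (stabilizer H w).index = (stabilizer H w').index) : Γ.index.Prime := by
  have h : Cnt.Hy W q Γ U K h₀ := ⟨hW, hK, sup, U1, ab, cm, gen, ne, frob, semi, nd1, nd2⟩
  obtain ⟨t, t1, t2, t3, t4⟩ := h.const
  exact h.main t1 t2 t3 t4

end CfsgLib.LMW
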