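import Mathlib
import Cfsg.Agent.Lib.NDiv.Case3
import Cfsg.Agent.Lib.Garr.Tools

/-! LMW (Lewis-Moreto-Wolf): solvable groups without divisibility among the nonlinear degrees.
The standing hypothesis `St`, the degrees `dd` over a character of `N`, the subgroup `K0`. -/

set_option autoImplicit false
set_option linter.unusedSectionVars false

namespace CfsgLib.LMW

open Cfsg CfsgLib.Char CfsgLib.CharDeep CfsgLib.ChDeg CfsgLib.RelDeg CfsgLib.NDiv Subgroup MulAction
open scoped commutatorElement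

variable {G : Type*} [Group G]

/-- the standing hypothesis: `G / N` cyclic generated by `g₀`, `[G : N]` a degree of `G / N'` -/
structure St (N : Subgroup G) (g₀ : G) : Prop where
  nd : ND G
  nor : N.Normal
  gen : N ⊔ zpowers g₀ = ⊤
  ne : N ≠ ⊤
  deg : ∃ χ, IsIrrCharacter G χ ∧ ⁅N, N⁆ ≤ cker χ ∧ charDegree χ = N.index
  nil : ∀ (p : ℕ) (K : Subgroup G) [K.Normal], p.Prime → IsPGroup p (G ⧸ K) → _root_.commutator G ≤ K

/-- the degree of the characters of `G` over `θ` -/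
noncomputable def dd (N : Subgroup G) [N.Normal] (θ : N → ℂ) : ℕ := (inertia N θ).index * charDegree θ

/-- the elements of `N` that are central modulo `N'` -/
def K0 (N : Subgroup G) [N.Normal] : Subgroup G :=
  N ⊓ (center (G ⧸ ⁅N, N⁆)).comap (QuotientGroup.mk' ⁅N, N⁆)

variable {N : Subgroup G} {g₀ : G}

theorem mem_K0 [N.Normal] {x : G} : x ∈ K0 N ↔ x ∈ N ∧ ∀ g, ⁅x, g⁆ ∈ ⁅N, N⁆ := by
  simp only [K0, mem_inf, mem_comap, mem_center_iff, QuotientGroup.mk'_apply]
  refine and_congr_right fun _ => ⟨fun h g => (commutator_mem_iff_commute _ x g).2 (h g).symm, fun h g => ?_⟩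
  obtain ⟨g, rfl⟩ := QuotientGroup.mk_surjective g
  exact ((commutator_mem_iff_commute _ x g).1 (h g)).symm

instance K0_normal [N.Normal] : (K0 N).Normal := by unfold K0; infer_instance

theorem K0_le [N.Normal] : K0 N ≤ N := inf_le_left

theorem St.comm_le (h : St N g₀) : _root_.commutator G ≤ N := by
  have := h.nor
  rw [← commutator_quotient_eq_bot_iff, _root_.commutator, commutator_eq_bot_iff_le_centralizer]
  intro a _ b _
  obtain ⟨a, rfl⟩ := QuotientGroup.mk_surjective a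
  obtain ⟨b, rfl⟩ := QuotientGroup.mk_surjective b
  obtain ⟨x, hx, i, rfl⟩ := exists_mul_zpow_of_sup N g₀ h.gen a
  obtain ⟨y, hy, j, rfl⟩ := exists_mul_zpow_of_sup N g₀ h.gen b
  simp only [QuotientGroup.mk_mul, (QuotientGroup.eq_one_iff _).2 hx, (QuotientGroup.eq_one_iff _).2 hy,
    one_mul, QuotientGroup.mk_zpow]
  exact zpow_mul_comm _ _ _

theorem St.cyc [N.Normal] (h : St N g₀) : IsCyclic (G ⧸ N) := by
  refine ⟨⟨(g₀ : G ⧸ N), fun a => ?_⟩⟩
  obtain ⟨a, rfl⟩ := QuotientGroup.mk_surjective a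
  obtain ⟨x, hx, i, rfl⟩ := exists_mul_zpow_of_sup N g₀ h.gen a
  exact ⟨i, by simp [(QuotientGroup.eq_one_iff _).2 hx]⟩

theorem St.index_ne (h : St N g₀) : N.index ≠ 1 := mt index_eq_one.1 h.ne

theorem St.not_mem (h : St N g₀) : g₀ ∉ N := fun e =>
  h.ne (by rw [← h.gen, sup_eq_left.2 ((zpowers_le_of_mem e))])

variable [Finite G] [N.Normal]

theorem St.deg_eq (h : St N g₀) {χ : G → ℂ} (hχ : IsIrrCharacter G χ) {θ : N → ℂ}
    (hθ : IsIrrCharacter N θ) (o : Garr.Ov N χ θ) : charDegree χ = dd N θ := by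
  have := Fintype.ofFinite G
  let _ := Fintype.ofFinite N
  have := h.cyc
  obtain ⟨e, -, h1, h2⟩ := exists_deg_clifford N hχ hθ o
  rw [FullRam.mult_one N (QuotientGroup.mk' N) (QuotientGroup.ker_mk' N) hχ hθ o] at h1
  rw [h2, show e = 1 by exact_mod_cast h1.symm, one_mul, dd]

theorem St.exists_deg (h : St N g₀) {θ : N → ℂ} (hθ : IsIrrCharacter N θ) :
    ∃ χ, IsIrrCharacter G χ ∧ Garr.Ov N χ θ ∧ charDegree χ = dd N θ := by
  let _ := Fintype.ofFinite N
  obtain ⟨χ, hχ, o⟩ := exists_irr_over N hθ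
  exact ⟨χ, hχ, o, h.deg_eq hχ hθ o⟩

theorem St.exists_under (h : St N g₀) {χ : G → ℂ} (hχ : IsIrrCharacter G χ) :
    ∃ θ, IsIrrCharacter N θ ∧ Garr.Ov N χ θ ∧ charDegree χ = dd N θ := by
  let _ := Fintype.ofFinite N
  obtain ⟨θ, hθ, o⟩ := exists_irr_under N hχ
  exact ⟨θ, hθ, o, h.deg_eq hχ hθ o⟩

theorem dd_ne_one {θ : N → ℂ} (h1 : charDegree θ ≠ 1) : dd N θ ≠ 1 :=
  fun e => h1 (Nat.eq_one_of_mul_eq_one_left e)

theorem St.dd_eq (h : St N g₀) {θ θ' : N → ℂ} (hθ : IsIrrCharacter N θ) (hθ' : IsIrrCharacter N θ')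
    (h1 : dd N θ ≠ 1) (h2 : dd N θ ∣ dd N θ') : dd N θ = dd N θ' := by
  obtain ⟨χ, hχ, -, e⟩ := h.exists_deg hθ
  obtain ⟨χ', hχ', -, e'⟩ := h.exists_deg hθ'
  rw [← e, ← e'] at h2 ⊢
  exact h.nd χ χ' hχ hχ' (e ▸ h1) h2

/-- a degree divisible by the index equals the index -/
theorem St.eq_index (h : St N g₀) {χ : G → ℂ} (hχ : IsIrrCharacter G χ) (hd : N.index ∣ charDegree χ) :
    charDegree χ = N.index := by
  obtain ⟨ψ, hψ, -, e⟩ := h.deg
  rw [← e] at hd ⊢
  exact (h.nd ψ χ hψ hχ (e ▸ h.index_ne) hd).symm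

/-- a degree dividing the index is `1` or the index -/
theorem St.eq_index' (h : St N g₀) {χ : G → ℂ} (hχ : IsIrrCharacter G χ) (hd : charDegree χ ∣ N.index) :
    charDegree χ = 1 ∨ charDegree χ = N.index := by
  obtain ⟨ψ, hψ, -, e⟩ := h.deg
  rw [← e] at hd ⊢
  exact or_iff_not_imp_left.2 fun n => h.nd χ ψ hχ hψ n hd

theorem St.exists_inertia (h : St N g₀) {θ : N → ℂ} (hθ : IsIrrCharacter N θ) (h1 : charDegree θ ≠ 1) :
    ∃ g, g ∉ N ∧ g ∈ inertia N θ := by
  by_contra! c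
  have e : inertia N θ = N := le_antisymm (fun g hg => by_contra fun n => c g n hg)
    (le_inertia N (isClassFunction_of_isIrr hθ))
  obtain ⟨χ, hχ, -, e'⟩ := h.exists_deg hθ
  rw [dd, e] at e'
  have := h.eq_index hχ (e' ▸ dvd_mul_right _ _)
  rw [e', Nat.mul_eq_left index_ne_zero_of_finite] at this
  exact h1 this

theorem St.dd_lin (h : St N g₀) {θ : N → ℂ} (hθ : IsIrrCharacter N θ) (h1 : charDegree θ = 1) :
    dd N θ = 1 ∨ dd N θ = N.index := by
  obtain ⟨χ, hχ, -, e⟩ := h.exists_deg hθ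
  rw [← e]
  refine h.eq_index' hχ ?_
  rw [e, dd, h1, mul_one]
  exact index_dvd_of_le (le_inertia N (isClassFunction_of_isIrr hθ))

/-- a linear character of `N` fixed by an element outside `N` is invariant -/
theorem St.stab_lin (h : St N g₀) (l : Lin N) {g : G} (hg : g ∉ N) (hl : g ∈ stabilizer G l) :
    stabilizer G l = ⊤ := by
  have e := h.dd_lin (isIrr_co l) (deg_co l)
  rw [dd, deg_co, mul_one, inertia_co] at e
  refine index_eq_one.1 (e.resolve_right fun e => hg ?_)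
  have hle : N ≤ stabilizer G l := inertia_co l ▸ le_inertia N (isClassFunction_of_isIrr (isIrr_co l))
  rwa [eq_of_le_of_index_le hle e.ge]

end CfsgLib.LMW
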