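import Cfsg.Agent.Lib.LMW.Defs
import Cfsg.Agent.Lib.LMW.Free

/-! LMW, package LAY: characters over a central section (proof: plans/LMW.md, LAY). -/

set_option autoImplicit false
set_option linter.unusedSectionVars false
set_option linter.unusedVariables false

namespace CfsgLib.LMW

open Cfsg CfsgLib.Char CfsgLib.CharDeep CfsgLib.ChDeg CfsgLib.RelDeg CfsgLib.NDiv Subgroup MulAction
open scoped commutatorElement

variable {G : Type*} [Group G] [Finite G] {N Y Z : Subgroup G} [N.Normal] [Y.Normal] [Z.Normal] {g₀ : G}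

/-- the linear characters of `Z` that are trivial on `Y` -/
def Lam (Z Y : Subgroup G) : Subgroup (Lin Z) where
  carrier := {ν | ∀ z : Z, (z : G) ∈ Y → ν.hom z = 1}
  one_mem' := fun _ _ => rfl
  mul_mem' := fun {a b} ha hb z hz => by
    show a.hom z * b.hom z = 1
    rw [ha z hz, hb z hz, one_mul]
  inv_mem' := fun {a} ha z hz => by
    show (a.hom z)⁻¹ = 1
    rw [ha z hz, inv_one]

/-- `θ` lies over the central character `ν` -/
def Cen (hZ : Z ≤ N) (θ : N → ℂ) (ν : Lin Z) : Prop :=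
  ∀ (z : Z) (x : N), θ (inclusion hZ z * x) = ν.hom z * θ x

theorem exists_cen (hZ : Z ≤ N) (ZN : ⁅Z, N⁆ ≤ Y) {θ : N → ℂ} (hθ : IsIrrCharacter N θ)
    (hY : Y.subgroupOf N ≤ cker θ) : ∃ ν ∈ Lam Z Y, Cen hZ θ ν := by
  have hc := isCharacter_of_isIrr hθ
  obtain ⟨l, hl⟩ := exists_hom_charCenter (irr_one_ne_zero hθ)
  have k : ∀ z : Z, inclusion hZ z ∈ charCenter θ := fun z => mem_charCenter_of_forall_commutator hθ fun n =>
    (mem_charKer hc).2 ((mem_cker hc).1 (hY (ZN (commutator_mem_commutator z.2 n.2))))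
  refine ⟨l.comp ((inclusion hZ).codRestrict _ k), fun z hz => ?_, fun z x => hl ⟨_, k z⟩ x⟩
  have e := hl ⟨_, k z⟩ 1
  rw [mul_one, show θ (inclusion hZ z) = θ 1 from (mem_cker hc).1 (hY hz), eq_comm,
    mul_eq_right₀ (irr_one_ne_zero hθ)] at e
  exact Units.val_eq_one.1 e

theorem le_stab (ZN : ⁅Z, N⁆ ≤ Y) {ν : Lin Z} (hν : ν ∈ Lam Z Y) : N ≤ stabilizer G ν := fun g hg =>
  mem_stab_iff.2 fun v hv => hν _ (ZN (by rw [commutator_comm]; exact commutator_mem_commutator hg hv))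

theorem smul_mem_Lam (g : G) {ν : Lin Z} (hν : ν ∈ Lam Z Y) : g • ν ∈ Lam Z Y := fun z hz => by
  rw [smul_hom_apply]
  exact hν _ (Normal.conj_mem inferInstance _ hz g⁻¹)

theorem Cen.one {hZ : Z ≤ N} {θ : N → ℂ} {ν : Lin Z} (h : Cen hZ θ ν) (z : Z) :
    θ (inclusion hZ z) = ν.hom z * θ 1 := by
  rw [← h, mul_one]

theorem Cen.unique {hZ : Z ≤ N} {θ : N → ℂ} (hθ : IsIrrCharacter N θ) {ν ν' : Lin Z}
    (h : ∀ z, θ (inclusion hZ z) = ν.hom z * θ 1) (h' : ∀ z, θ (inclusion hZ z) = ν'.hom z * θ 1) : ν = ν' :=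
  co_injective (funext fun z => mul_right_cancel₀ (irr_one_ne_zero hθ) ((h z).symm.trans (h' z)))

theorem exists_cen' (hZ : Z ≤ N) (YZ : Y ≤ Z) (ZN : ⁅Z, N⁆ ≤ Y) {ν : Lin Z} (hν : ν ∈ Lam Z Y) :
    ∃ θ, IsIrrCharacter N θ ∧ Y.subgroupOf N ≤ cker θ ∧ Cen hZ θ ν := by
  have := Fintype.ofFinite G
  have := Fintype.ofFinite N
  have := Fintype.ofFinite Z
  obtain ⟨χ, hχ, h1⟩ := exists_irr_over _ (isIrr_co ν)
  obtain ⟨θ, hθ, -, h2⟩ := exists_irr_between' hZ (isClassFunction_of_isIrr hχ) h1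
  have h3 := clifford_invariant_le _ N hZ hθ (isIrr_co ν) (inertia_co ν ▸ le_stab ZN hν) h2
  have h4 : ∀ z : Z, θ (inclusion hZ z) = ν.hom z * θ 1 := fun z => by
    have e1 := congrFun h3 z
    have e2 := congrFun h3 1
    simp only [Pi.smul_apply, smul_eq_mul, co_apply_one, mul_one] at e1 e2
    exact e1.trans ((congrArg (· * _) e2.symm).trans (mul_comm _ _))
  have h5 : Y.subgroupOf N ≤ cker θ := fun y hy => (mem_cker (isCharacter_of_isIrr hθ)).2 (by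
    have := h4 ⟨y, YZ hy⟩
    rwa [hν ⟨y, YZ hy⟩ hy, Units.val_one, one_mul] at this)
  obtain ⟨ν', -, h6⟩ := exists_cen hZ ZN hθ h5
  exact ⟨θ, hθ, h5, Cen.unique hθ h6.one h4 ▸ h6⟩

theorem Cen.cker_iff {hZ : Z ≤ N} {θ : N → ℂ} (hθ : IsIrrCharacter N θ) {ν : Lin Z} (h : Cen hZ θ ν)
    (z : Z) : inclusion hZ z ∈ cker θ ↔ ν.hom z = 1 := by
  rw [mem_cker (isCharacter_of_isIrr hθ), h.one, mul_eq_right₀ (irr_one_ne_zero hθ), Units.val_eq_one]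

theorem Cen.inertia_le {hZ : Z ≤ N} {θ : N → ℂ} (hθ : IsIrrCharacter N θ) {ν : Lin Z} (h : Cen hZ θ ν) :
    inertia N θ ≤ stabilizer G ν := by
  intro g hg
  refine Cen.unique hθ (fun z => ?_) h.one
  rw [smul_hom_apply, ← h.one, ← (mem_inertia' N).1 (inv_mem hg)]
  rfl

theorem exists_Lam (ZY : ⁅Z, Z⁆ ≤ Y) {z : Z} (hz : (z : G) ∉ Y) : ∃ ν ∈ Lam Z Y, ν.hom z ≠ 1 := by
  obtain ⟨χ, hχ, h1, h2⟩ := exists_irr_le_cker_not_mem (Y.subgroupOf Z) (g := z) hz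
  have hc := isCharacter_of_isIrr hχ
  obtain ⟨ν, rfl⟩ := exists_co hc ((deg_eq_one_iff_commutator_le hχ).2 fun x hx => h1 (ZY (Palfy.mem_comm.1 hx)))
  refine ⟨ν, fun y hy => ?_, fun e => h2 ((mem_cker hc).2 ?_)⟩
  · have := (mem_cker hc).1 (h1 hy)
    rw [co_apply_one] at this
    exact Units.val_eq_one.1 this
  · rw [co_apply_one]
    exact Units.val_eq_one.2 e

theorem St.reg (h : St N g₀) (ZN : ⁅Z, N⁆ ≤ Y) (cop : N.index.Coprime (Nat.card Z)) :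
    ∃ ν ∈ Lam Z Y, ∀ ν' ∈ Lam Z Y, stabilizer G ν ≤ stabilizer G ν' :=
  LMW.reg (Lam Z Y) (fun g _ hw => smul_mem_Lam g hw) (fun g k w hw => by
    have := le_stab ZN (smul_mem_Lam (k * g) hw) (h.comm_le (commutator_mem_commutator (mem_top g) (mem_top k)))
    rw [mem_stabilizer_iff, smul_smul, show ⁅g, k⁆ * (k * g) = g * k by simp [commutatorElement_def]] at this
    rw [smul_smul, smul_smul, this])
    (fun g w hw => le_stab ZN hw (pow_index_mem N g)) (fun w _ => lin_pow_card w) cop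

theorem Cen.deg_ne {hZ : Z ≤ N} (ZA : Z ≤ ⁅N, N⁆) {θ : N → ℂ} (hθ : IsIrrCharacter N θ) {ν : Lin Z}
    (h : Cen hZ θ ν) (h1 : ν ≠ 1) : charDegree θ ≠ 1 := fun e => h1 (MonoidHom.ext fun z =>
  (h.cker_iff hθ z).1 ((deg_eq_one_iff_commutator_le hθ).1 e (Palfy.mem_comm.2 (ZA z.2))))

/-- a central section of `N` inside `N'` is centralised by an element outside `N` -/
theorem St.exists_cent (h : St N g₀) (YZ : Y ≤ Z) (ZA : Z ≤ ⁅N, N⁆) (ZN : ⁅Z, N⁆ ≤ Y)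
    (cop : N.index.Coprime (Nat.card Z)) : ∃ j : ℤ, g₀ ^ j ∉ N ∧ ∀ z ∈ Z, ⁅z, g₀ ^ j⁆ ∈ Y := by
  have hZ : Z ≤ N := ZA.trans (commutator_le_left _ _)
  obtain ⟨ν, hν, hm⟩ := h.reg ZN cop
  obtain ⟨j, j1, j2⟩ : ∃ j : ℤ, g₀ ^ j ∉ N ∧ g₀ ^ j ∈ stabilizer G ν := by
    by_cases e : ν = 1
    · exact ⟨1, by rw [zpow_one]; exact h.not_mem, by rw [e]; exact smul_one _⟩
    obtain ⟨θ, hθ, -, c⟩ := exists_cen' hZ YZ ZN hν
    obtain ⟨g, g1, g2⟩ := h.exists_inertia hθ (c.deg_ne ZA hθ e)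
    obtain ⟨n, hn, j, rfl⟩ := exists_mul_zpow_of_sup N g₀ h.gen g
    exact ⟨j, fun k => g1 (mul_mem hn k), (mul_mem_cancel_left (le_stab ZN hν hn)).1 (c.inertia_le hθ g2)⟩
  refine ⟨j, j1, fun z hz => ?_⟩
  rw [← commutatorElement_inv, inv_mem_iff]
  by_contra c
  obtain ⟨ν', h1, h2⟩ := exists_Lam ((commutator_mono le_rfl hZ).trans ZN)
    (z := ⟨_, mul_mem (Normal.conj_mem inferInstance z hz (g₀ ^ j)) (inv_mem hz)⟩) c
  exact h2 (mem_stab_iff.1 (hm ν' h1 j2) z hz)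

end CfsgLib.LMW
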