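import Cfsg.Agent.Lib.LMW.Lay

/-! LMW, package LAY2: one degree per layer (proof: plans/LMW.md, LAY2). -/

set_option autoImplicit false
set_option linter.unusedSectionVars false
set_option linter.unusedVariables false

namespace CfsgLib.LMW

open Cfsg CfsgLib.Char CfsgLib.CharDeep CfsgLib.ChDeg CfsgLib.RelDeg CfsgLib.NDiv Subgroup MulAction
open scoped commutatorElement

variable {G : Type*} [Group G] [Finite G] {N Y Z : Subgroup G} [N.Normal] [Y.Normal] [Z.Normal] {g₀ : G}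

namespace Lay2

variable {Q B : Subgroup G} {hZ : Z ≤ N} {θ θ' : N → ℂ} {ν ν' : Lin Z}

theorem smul_hom_of_comm {t : G} {z : Z} (h : t * z = z * t) (ν : Lin Z) : (t • ν).hom z = ν.hom z := by
  rw [smul_hom_apply]
  congr 1
  ext
  simp [mul_assoc, ← h]

theorem not_le (hθ : IsIrrCharacter N θ) (c : Cen hZ θ ν) (h1 : ν ≠ 1) : ¬ Z.subgroupOf N ≤ cker θ :=
  fun k => h1 (MonoidHom.ext fun z => (c.cker_iff hθ z).1 (k z.2))

theorem ne_one (hθ : IsIrrCharacter N θ) (c : Cen hZ θ ν) (h : ¬ Z.subgroupOf N ≤ cker θ) : ν ≠ 1 :=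
  fun e => h fun z hz => (c.cker_iff hθ ⟨z, hz⟩).2 (by rw [e]; rfl)

theorem inert (h : St N g₀) (ZN : ⁅Z, N⁆ ≤ Y) (Qg : ∀ q ∈ Q, q * g₀ = g₀ * q) (QN : Q ≤ N)
    (hθ : IsIrrCharacter N θ) (c : Cen hZ θ ν) (hν : ν ∈ Lam Z Y) (van : ∀ x : N, (x : G) ∉ Q ⊔ Z → θ x = 0) :
    inertia N θ = stabilizer G ν := by
  refine le_antisymm (c.inertia_le hθ) fun g hg => ?_
  obtain ⟨n, hn, j, rfl⟩ := exists_mul_zpow_of_sup N g₀ h.gen g
  refine mul_mem (le_inertia N (isClassFunction_of_isIrr hθ) hn) ((mem_inertia' N).2 fun x => ?_)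
  have ht : (g₀ ^ j)⁻¹ • ν = ν := inv_mem ((mul_mem_cancel_left (le_stab ZN hν hn)).1 hg)
  have cq : ∀ q ∈ Q, g₀ ^ j * q = q * g₀ ^ j := fun q hq => ((show Commute q g₀ from Qg q hq).zpow_right j).symm
  by_cases hx : (x : G) ∈ Z ⊔ Q
  · obtain ⟨z, hz, q, hq, e⟩ := mem_sup_of_normal_left.1 hx
    have e1 := c ⟨z, hz⟩ ⟨q, QN hq⟩
    have e2 := c (MulAut.conjNormal (g₀ ^ j)⁻¹⁻¹ ⟨z, hz⟩) ⟨q, QN hq⟩
    rw [← smul_hom_apply, ht, ← e1] at e2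
    convert e2 using 2
    · ext
      simp only [← e, inv_inv, coe_mul, coe_inclusion, MulAut.conjNormal_apply]
      calc g₀ ^ j * (z * q) * (g₀ ^ j)⁻¹ = g₀ ^ j * z * (g₀ ^ j)⁻¹ * (g₀ ^ j * q) * (g₀ ^ j)⁻¹ := by group
        _ = _ := by rw [cq q hq]; group
    · exact Subtype.ext e.symm
  · rw [van x (sup_comm Z Q ▸ hx), van _ fun k => hx ?_]
    rw [sup_comm] at k
    obtain ⟨z, hz, q, hq, e⟩ := mem_sup_of_normal_left.1 k
    have : (x : G) = (g₀ ^ j)⁻¹ * z * (g₀ ^ j)⁻¹⁻¹ * q := by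
      calc (x : G) = (g₀ ^ j)⁻¹ * (g₀ ^ j * x * (g₀ ^ j)⁻¹) * g₀ ^ j := by group
        _ = (g₀ ^ j)⁻¹ * z * (q * g₀ ^ j) := by rw [show g₀ ^ j * x * (g₀ ^ j)⁻¹ = z * q from e.symm]; group
        _ = _ := by rw [← cq q hq]; group
    rw [this]
    exact mul_mem (mem_sup_left (Normal.conj_mem inferInstance z hz _)) (mem_sup_right hq)

variable [B.Normal] (YZ : Y ≤ Z) (ZN : ⁅Z, N⁆ ≤ Y) (QQ : ⁅Q, Q⁆ ≤ Z) (QB : ⁅Q, B⁆ ≤ Y) (sup : Q ⊔ B = N)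
include ZN QQ QB sup

theorem cong (hZ : Z ≤ N) {z q : G} (hz : z ∈ Z) (hq : q ∈ Q) {n : G} (hn : n ∈ N) :
    ∃ q' ∈ Q, ∃ y ∈ Y, ∃ y' ∈ Y, ⁅z * q, n⁆ = y * ⁅q, q'⁆ * y' := by
  obtain ⟨b, hb, q', hq', rfl⟩ := mem_sup_of_normal_left.1 (sup_comm Q B ▸ sup.ge hn)
  have hw := QQ (commutator_mem_commutator hq hq')
  refine ⟨q', hq', z * (⁅q, b⁆ * ⁅⁅q, q'⁆, b⁆⁻¹) * z⁻¹ * ⁅z, ⁅q, q'⁆⁆, mul_mem (Normal.conj_mem inferInstance _
    (mul_mem (QB (commutator_mem_commutator hq hb)) (inv_mem (ZN (commutator_mem_commutator hw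
      (sup.le (mem_sup_right hb)))))) z) (ZN (commutator_mem_commutator hz (hZ hw))), _,
    ZN (commutator_mem_commutator hz hn), ?_⟩
  simp only [commutatorElement_def]; group

include YZ

theorem van' (hθ : IsIrrCharacter N θ) (c : Cen hZ θ ν) (van : ∀ x : N, (x : G) ∉ Q ⊔ Z → θ x = 0) (x : N)
    (hx : x ∉ charCenter θ) : θ x = 0 := by
  have hc := isCharacter_of_isIrr hθ
  refine by_contra fun h0 => hx (mem_charCenter_of_forall_commutator hθ fun n => ?_)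
  obtain ⟨z, hz, q, hq, e⟩ := mem_sup_of_normal_left.1 (sup_comm Q Z ▸ (by_contra fun k => h0 (van x k)))
  obtain ⟨q', hq', y, hy, y', hy', e'⟩ := cong ZN QQ QB sup hZ hz hq n.2
  have hw : ((⁅x, n⁆⁻¹ : N) : G) ∈ Z := inv_mem (by
    show ⁅(x : G), (n : G)⁆ ∈ Z
    rw [← e, e']
    exact mul_mem (mul_mem (YZ hy) (QQ (commutator_mem_commutator hq hq'))) (YZ hy'))
  have e1 := c ⟨_, hw⟩ x
  rw [show inclusion hZ ⟨_, hw⟩ * x = n * x * n⁻¹ from Subtype.ext (by simp [commutatorElement_def, mul_assoc]),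
    isClassFunction_of_isIrr hθ x n, eq_comm, mul_eq_right₀ h0, Units.val_eq_one, ← c.cker_iff hθ] at e1
  exact (mem_charKer hc).2 ((mem_cker hc).1 (inv_mem_iff.1 e1))

theorem cen_iff (hθ : IsIrrCharacter N θ) (hY : Y.subgroupOf N ≤ cker θ) (c : Cen hZ θ ν)
    (van : ∀ x : N, (x : G) ∉ Q ⊔ Z → θ x = 0) (x : N) : x ∈ charCenter θ ↔ ∃ z ∈ Z, ∃ q, ∃ hq : q ∈ Q,
      z * q = x ∧ ∀ q' (hq' : q' ∈ Q), ν.hom ⟨_, QQ (commutator_mem_commutator hq hq')⟩ = 1 := by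
  have hc := isCharacter_of_isIrr hθ
  have QN : Q ≤ N := le_sup_left.trans sup.le
  have kk : ∀ g, g ∈ charKer θ ↔ g ∈ cker θ := fun g => (mem_charKer hc).trans (mem_cker hc).symm
  constructor
  · intro hx
    have h0 : θ x ≠ 0 := fun e => irr_one_ne_zero hθ (by
      have := (mem_charCenter hc).1 hx
      rwa [e, norm_zero, eq_comm, norm_eq_zero] at this)
    obtain ⟨z, hz, q, hq, e⟩ := mem_sup_of_normal_left.1 (sup_comm Q Z ▸ (by_contra fun k => h0 (van x k)))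
    refine ⟨z, hz, q, hq, e, fun q' hq' => (c.cker_iff hθ _).1 ?_⟩
    have e1 := (kk _).1 (commutator_mem_charKer (isClassFunction_of_isIrr hθ) hx ⟨q', QN hq'⟩)
    have e2 : (⁅(⟨z, hZ hz⟩ : N), ⟨q', QN hq'⟩⁆) ∈ cker θ := hY (ZN (commutator_mem_commutator hz (QN hq')))
    have := (cker_normal θ).conj_mem _ (mul_mem e1 (inv_mem e2)) ⟨z, hZ hz⟩⁻¹
    convert this using 1
    ext
    simp [← e, commutatorElement_def, mul_assoc]
  · rintro ⟨z, hz, q, hq, e, H⟩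
    refine mem_charCenter_of_forall_commutator hθ fun n => (kk _).2 ?_
    obtain ⟨q', hq', y, hy, y', hy', e'⟩ := cong ZN QQ QB sup hZ hz hq n.2
    have := mul_mem (mul_mem (hY (show (⟨y, hZ (YZ hy)⟩ : N) ∈ _ from hy)) ((c.cker_iff hθ _).2 (H q' hq')))
      (hY (show (⟨y', hZ (YZ hy')⟩ : N) ∈ _ from hy'))
    convert this using 1
    exact Subtype.ext ((show _ = ⁅z * q, (n : G)⁆ by rw [e]; rfl).trans e')

theorem deg_eq (hθ : IsIrrCharacter N θ) (hY : Y.subgroupOf N ≤ cker θ) (c : Cen hZ θ ν)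
    (van : ∀ x : N, (x : G) ∉ Q ⊔ Z → θ x = 0) (hθ' : IsIrrCharacter N θ') (hY' : Y.subgroupOf N ≤ cker θ')
    (c' : Cen hZ θ' ν') (van2 : ∀ x : N, (x : G) ∉ Q ⊔ Z → θ' x = 0)
    (H : ∀ q (hq : q ∈ Q) q' (hq' : q' ∈ Q), ν.hom ⟨_, QQ (commutator_mem_commutator hq hq')⟩ =
      ν'.hom ⟨_, QQ (commutator_mem_commutator hq hq')⟩) : charDegree θ = charDegree θ' := by
  have e : charCenter θ = charCenter θ' := Subgroup.ext fun x => by
    rw [cen_iff YZ ZN QQ QB sup hθ hY c van, cen_iff YZ ZN QQ QB sup hθ' hY' c' van2]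
    exact exists_congr fun z => and_congr_right fun _ => exists_congr fun q => exists_congr fun hq =>
      and_congr_right fun _ => forall₂_congr fun q' hq' => by rw [H q hq q' hq']
  have e1 := deg_sq_eq_index_of_vanish hθ _ (fun z => (mem_charCenter (isCharacter_of_isIrr hθ)).1)
    (van' YZ ZN QQ QB sup hθ c van)
  have e2 := deg_sq_eq_index_of_vanish hθ' _ (fun z => (mem_charCenter (isCharacter_of_isIrr hθ')).1)
    (van' YZ ZN QQ QB sup hθ' c' van2)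
  exact Nat.pow_left_injective two_ne_zero (e1.trans (e ▸ e2.symm))

end Lay2

open Lay2

theorem St.lay (h : St N g₀) {r : ℕ} (hr : r.Prime) {Q B : Subgroup G} [B.Normal] (YZ : Y ≤ Z)
    (ZA : Z ≤ ⁅N, N⁆) (ZN : ⁅Z, N⁆ ≤ Y) (cop : N.index.Coprime (Nat.card Z))
    (Qg : ∀ q ∈ Q, q * g₀ = g₀ * q) (QQ : ⁅Q, Q⁆ ≤ Z) (QB : ⁅Q, B⁆ ≤ Y) (sup : Q ⊔ B = N)
    (pw : ∀ θ, IsIrrCharacter N θ → ∃ k, charDegree θ = r ^ k)
    (van : ∀ θ, IsIrrCharacter N θ → Y.subgroupOf N ≤ cker θ → ¬ Z.subgroupOf N ≤ cker θ →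
      ∀ x : N, (x : G) ∉ Q ⊔ Z → θ x = 0) :
    ∃ m, ∀ θ, IsIrrCharacter N θ → Y.subgroupOf N ≤ cker θ → ¬ Z.subgroupOf N ≤ cker θ → dd N θ = m := by
  have hZ : Z ≤ N := ZA.trans (commutator_le_left _ _)
  have QN : Q ≤ N := le_sup_left.trans sup.le
  have top : ∀ ν ∈ Lam Z Y, g₀ • ν = ν → (stabilizer G ν).index = 1 := fun ν hν e =>
    index_eq_one.2 (eq_top_iff.2 (h.gen.ge.trans (sup_le (le_stab ZN hν) (zpowers_le_of_mem e))))
  have ddeq : ∀ θ ν, IsIrrCharacter N θ → Y.subgroupOf N ≤ cker θ → Cen hZ θ ν → ν ∈ Lam Z Y → ν ≠ 1 →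
      dd N θ = (stabilizer G ν).index * charDegree θ := fun θ ν hθ hY c hν h1 => by
    rw [dd, inert h ZN Qg QN hθ c hν (van θ hθ hY (not_le hθ c h1))]
  have cq : ∀ {q q' : G} (hq : q ∈ Q) (hq' : q' ∈ Q) (i : ℕ) (ν : Lin Z),
      (g₀ ^ i • ν).hom ⟨_, QQ (commutator_mem_commutator hq hq')⟩ =
        ν.hom ⟨_, QQ (commutator_mem_commutator hq hq')⟩ := fun hq hq' i ν =>
    smul_hom_of_comm ((show Commute _ g₀ from Qg _ (Core.commutator_le_of_le le_rfl le_rfl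
      (commutator_mem_commutator hq hq'))).pow_right i).symm.eq ν
  by_cases hall : ∀ ν ∈ Lam Z Y, g₀ • ν = ν
  · by_cases h0 : ∃ θ, IsIrrCharacter N θ ∧ Y.subgroupOf N ≤ cker θ ∧ ¬ Z.subgroupOf N ≤ cker θ
    swap
    · exact ⟨0, fun θ a b c => absurd ⟨θ, a, b, c⟩ h0⟩
    have key : ∀ θ, IsIrrCharacter N θ → Y.subgroupOf N ≤ cker θ → ¬ Z.subgroupOf N ≤ cker θ →
        dd N θ ≠ 1 ∧ ∃ k, dd N θ = r ^ k := fun θ a b c => by
      obtain ⟨ν, hν, d⟩ := exists_cen hZ ZN a b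
      refine ⟨dd_ne_one (d.deg_ne ZA a (ne_one a d c)), ?_⟩
      rw [ddeq θ ν a b d hν (ne_one a d c), top ν hν (hall ν hν), one_mul]
      exact pw θ a
    obtain ⟨θ₀, a₀, b₀, c₀⟩ := h0
    refine ⟨dd N θ₀, fun θ a b c => ?_⟩
    obtain ⟨k1, k, k2⟩ := key θ a b c
    obtain ⟨l1, l, l2⟩ := key θ₀ a₀ b₀ c₀
    rcases le_total k l with e | e
    · exact h.dd_eq a a₀ k1 (by rw [k2, l2]; exact pow_dvd_pow r e)
    · exact (h.dd_eq a₀ a l1 (by rw [k2, l2]; exact pow_dvd_pow r e)).symm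
  push Not at hall
  obtain ⟨ν₁, hν₁, n₁⟩ := hall
  have hf : ∀ ν ∈ Lam Z Y, g₀ ^ N.index • ν = ν := fun ν hν => le_stab ZN hν (pow_index_mem N g₀)
  have hu : g₀ • ν₁ * ν₁⁻¹ ∈ Lam Z Y := mul_mem (smul_mem_Lam g₀ hν₁) (inv_mem hν₁)
  have u1 : g₀ • (g₀ • ν₁ * ν₁⁻¹) ≠ g₀ • ν₁ * ν₁⁻¹ := fun e => n₁ (by
    have key : ∀ i : ℕ, g₀ ^ i • ν₁ = (g₀ • ν₁ * ν₁⁻¹) ^ i * ν₁ := fun i => by
      induction i with
      | zero => simp
      | succ i ih => rw [pow_succ', mul_smul, ih, smul_mul', smul_pow', e, pow_succ, mul_assoc, inv_mul_cancel_right]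
    have := key N.index
    rw [hf ν₁ hν₁, eq_comm, mul_eq_right] at this
    exact mul_inv_eq_one.1 (eq_one_of_cop cop this (lin_pow_card _)))
  have triv : ∀ ν ∈ Lam Z Y, ∀ q (hq : q ∈ Q) q' (hq' : q' ∈ Q),
      ν.hom ⟨_, QQ (commutator_mem_commutator hq hq')⟩ = 1 := fun ν hν q hq q' hq' => by_contra fun n => by
    let ν₀ := ∏ i ∈ Finset.range N.index, g₀ ^ i • ν
    have m₀ : ν₀ ∈ Lam Z Y := prod_mem fun i _ => smul_mem_Lam _ hν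
    have f₀ : g₀ • ν₀ = ν₀ := by
      have e1 := Finset.prod_range_succ (fun i => g₀ ^ i • ν) N.index
      rw [Finset.prod_range_succ', hf ν hν, pow_zero, one_smul, mul_left_inj] at e1
      refine Eq.trans ?_ e1
      rw [Finset.smul_prod']
      exact Finset.prod_congr rfl fun i _ => by rw [pow_succ', mul_smul]
    have n₀ : ν₀ ≠ 1 := fun e => n (by
      let ev : Lin Z →* ℂˣ := MonoidHom.mk' (fun μ => μ.hom ⟨_, QQ (commutator_mem_commutator hq hq')⟩)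
        fun _ _ => rfl
      have e1 : ev ν₀ = ev ν ^ N.index := by
        rw [map_prod, ← Finset.card_range N.index, ← Finset.prod_const, Finset.card_range]
        exact Finset.prod_congr rfl fun i _ => cq hq hq' i ν
      rw [e, map_one] at e1
      exact (pow_eq_one_iff_of_coprime cop).1 ⟨e1.symm, by
        show ν.hom _ ^ _ = 1
        rw [← map_pow, pow_card_eq_one', map_one]⟩)
    have n₂ : g₀ • (ν₀ * (g₀ • ν₁ * ν₁⁻¹)) ≠ ν₀ * (g₀ • ν₁ * ν₁⁻¹) := fun e =>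
      u1 (by rwa [smul_mul', f₀, mul_right_inj] at e)
    have n₃ : ν₀ * (g₀ • ν₁ * ν₁⁻¹) ≠ 1 := fun e => n₂ (by rw [e, smul_one])
    obtain ⟨θ, a, b, c⟩ := exists_cen' hZ YZ ZN m₀
    obtain ⟨θ', a', b', c'⟩ := exists_cen' hZ YZ ZN (mul_mem m₀ hu)
    have e1 := Lay2.deg_eq YZ ZN QQ QB sup a b c (van θ a b (not_le a c n₀)) a' b' c' (van θ' a' b' (not_le a' c' n₃))
      fun q hq q' hq' => by
        have := cq hq hq' 1 ν₁
        rw [pow_one] at this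
        show _ = ν₀.hom _ * ((g₀ • ν₁).hom _ * (ν₁.hom _)⁻¹)
        rw [this, mul_inv_cancel, mul_one]
    have e2 := ddeq θ ν₀ a b c m₀ n₀
    have e3 := ddeq θ' _ a' b' c' (mul_mem m₀ hu) n₃
    rw [top ν₀ m₀ f₀, one_mul] at e2
    have e4 := h.dd_eq a a' (dd_ne_one (c.deg_ne ZA a n₀)) (by rw [e2, e3, e1]; exact dvd_mul_left _ _)
    rw [e2, e3, e1, eq_comm, Nat.mul_eq_right (deg_pos a').ne', index_eq_one] at e4
    exact n₂ (e4.ge (mem_top g₀))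
  obtain ⟨ν₀, hν₀, hm⟩ := h.reg ZN cop
  have n₀ : ν₀ ≠ 1 := fun e => n₁ (hm ν₁ hν₁ (by rw [e]; exact smul_one g₀))
  obtain ⟨θ₀, a₀, b₀, c₀⟩ := exists_cen' hZ YZ ZN hν₀
  refine ⟨dd N θ₀, fun θ a b c => ?_⟩
  obtain ⟨ν, hν, d⟩ := exists_cen hZ ZN a b
  refine h.dd_eq a a₀ (dd_ne_one (d.deg_ne ZA a (ne_one a d c))) ?_
  rw [ddeq θ ν a b d hν (ne_one a d c), ddeq θ₀ ν₀ a₀ b₀ c₀ hν₀ n₀, Lay2.deg_eq YZ ZN QQ QB sup a b d (van θ a b c)
    a₀ b₀ c₀ (van θ₀ a₀ b₀ (not_le a₀ c₀ n₀)) fun q hq q' hq' => by rw [triv ν hν q hq q' hq', triv ν₀ hν₀ q hq q' hq']]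
  exact mul_dvd_mul_right (index_dvd_of_le (hm ν hν)) _

end CfsgLib.LMW
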