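import Cfsg.Agent.Lib.LMW.Star
import Cfsg.Agent.Lib.LMW.Fpf

/-! LMW, package ONE: a nonabelian Sylow subgroup (proof: plans/LMW.md, ONE). -/

set_option autoImplicit false
set_option linter.unusedSectionVars false

namespace CfsgLib.LMW

open Cfsg CfsgLib.Char CfsgLib.CharDeep CfsgLib.ChDeg CfsgLib.RelDeg CfsgLib.NDiv Subgroup MulAction
open scoped commutatorElement

open CfsgLib.LieM

variable {G : Type*} [Group G] [Finite G] {N : Subgroup G} [N.Normal] {g₀ : G} {r : ℕ} [Fact r.Prime]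

omit [N.Normal] in
/-- a section over a normal Hall subgroup -/
theorem One.sec (L : Subgroup G) [L.Normal]
    (cop : (Nat.card L).Coprime (L.relIndex (_root_.commutator G))) :
    ∃ σ : _root_.commutator (G ⧸ L) →* G, ∀ x, σ x ∈ _root_.commutator G ∧ (σ x : G ⧸ L) = x := by
  let π : _root_.commutator G →* _root_.commutator (G ⧸ L) :=
    ((QuotientGroup.mk' L).comp (_root_.commutator G).subtype).codRestrict _ fun b => St.mk_comm b.2
  have hk : ∀ b, π b = 1 ↔ b ∈ L.subgroupOf (_root_.commutator G) := fun b =>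
    Subtype.ext_iff.trans (QuotientGroup.eq_one_iff _)
  obtain ⟨H, hH⟩ := exists_right_complement'_of_coprime (N := L.subgroupOf (_root_.commutator G))
    (cop.coprime_dvd_left (card_comap_dvd_of_injective L _ (subtype_injective _)))
  have hb : Function.Bijective (π.comp H.subtype) := by
    rw [Nat.bijective_iff_injective_and_card, St.card_comm, injective_iff_map_eq_one]
    exact ⟨fun a ha => Subtype.ext (disjoint_def.1 hH.disjoint ((hk _).1 ha) a.2), hH.symm.index_eq_card.symm⟩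
  let e := MulEquiv.ofBijective _ hb
  refine ⟨((_root_.commutator G).subtype.comp H.subtype).comp e.symm.toMonoidHom, fun x => ⟨(e.symm x).1.2, ?_⟩⟩
  exact congrArg Subtype.val (e.apply_symm_apply x)

theorem One.pow (h : St N g₀) {M : Subgroup G} [M.Normal] {k : ℕ} (hk : M.relIndex N = r ^ k)
    (hA : ¬ ⁅N, N⁆ ≤ M) : ∃ n, (M ⊓ ⁅N, N⁆).relIndex (_root_.commutator G) = r ^ n := by
  have hr : r.Prime := Fact.out
  obtain ⟨a, ha, haM⟩ := SetLike.not_le_iff_exists.1 hA
  obtain ⟨θ, hθ, h1, h2⟩ := exists_irr_le_cker_not_mem (M.subgroupOf N) (g := ⟨a, St.A_le ha⟩) haM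
  have h3 : charDegree θ ≠ 1 := fun e => h2 ((deg_eq_one_iff_commutator_le hθ).1 e (by
    rw [← map_subtype_commutator] at ha
    obtain ⟨b, hb, rfl⟩ := ha
    exact hb))
  have h4 : charDegree θ ∣ r ^ k := hk ▸ deg_dvd_index_of_le_cker hθ _ h1
  have h5 := Nat.eq_prime_pow_of_unique_prime_dvd (p := r)
    (n := (⁅N, N⁆).relIndex (_root_.commutator G)) index_ne_zero_of_finite fun hd hq =>
      (Nat.prime_dvd_prime_iff_eq hd hr).1 (hd.dvd_of_dvd_pow ((h.dvd_deg hd hq hθ h3).trans h4))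
  have h6 : (M ⊓ ⁅N, N⁆).relIndex ⁅N, N⁆ ∣ r ^ k := by
    rw [inf_relIndex_right, ← hk, ← relIndex_subgroupOf St.A_le]
    exact relIndex_dvd_index_of_normal _ _
  obtain ⟨j, -, hj⟩ := (Nat.dvd_prime_pow hr).1 h6
  exact ⟨_, by rw [← relIndex_mul_relIndex _ _ _ inf_le_right h.lt.le, hj, h5, ← pow_add]⟩

theorem St.one [Group.IsSolvable G] (h : St N g₀) (hd : r ∣ (⁅N, N⁆).relIndex (_root_.commutator G))
    (hA : r ∣ Nat.card ↥(⁅N, N⁆)) : IsPGroup r (_root_.commutator G) ∨ N.index.Prime := by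
  have hr : r.Prime := Fact.out
  obtain ⟨M, hM, MN, rM, k, hk⟩ := h.exists_compl hr hd
  have AM : ¬ ⁅N, N⁆ ≤ M := fun e => rM (hA.trans (card_dvd_of_le e))
  obtain ⟨n, hn⟩ := One.pow h hk AM
  have rL : ¬ r ∣ Nat.card ↥(M ⊓ ⁅N, N⁆) := fun e => rM (e.trans (card_dvd_of_le inf_le_left))
  have LA : M ⊓ ⁅N, N⁆ ≤ ⁅N, N⁆ := inf_le_right
  have AL : ¬ ⁅N, N⁆ ≤ M ⊓ ⁅N, N⁆ := fun e => AM (e.trans inf_le_left)
  have : (M ⊓ ⁅N, N⁆).Normal := inferInstance
  generalize M ⊓ ⁅N, N⁆ = L at *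
  by_cases L0 : L = ⊥
  · rw [L0, relIndex_bot_left] at hn
    exact Or.inl (IsPGroup.of_card hn)
  right
  have cop : (Nat.card L).Coprime (r ^ n) := ((Nat.Prime.coprime_iff_not_dvd hr).2 rL).symm.pow_right n
  have hc := (St.card_comm L).trans hn
  have hP : IsPGroup r (_root_.commutator (G ⧸ L)) := IsPGroup.of_card hc
  have h0 := h.quot L LA
  obtain ⟨g₁, h1, hg⟩ := h0.exists_cop hr (h0.not_dvd hP)
  obtain ⟨s1, s2, s3, -⟩ := h1.star hP hg
  rw [← Subgroup.map_commutator] at s3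
  obtain ⟨σ, hσ⟩ := One.sec L (hn ▸ cop)
  obtain ⟨V, VL, V0, Vc, SV⟩ := Frob.exists_invariant_abelian (A := σ.range) (K := L) le_normalizer_of_normal
    (cop.symm.coprime_dvd_left (hc ▸ card_range_dvd σ)) (Or.inr inferInstance) L0
  let _ : CommGroup V := { mul_comm := Vc.is_comm.comm }
  let _ : MulDistribMulAction (_root_.commutator (G ⧸ L)) V := MulDistribMulAction.compHom V
    (V.normalizerMonoidHom.comp (σ.codRestrict _ fun x => SV ⟨x, rfl⟩))
  have : Nontrivial V := (nontrivial_iff_ne_bot V).2 V0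
  have e4 := LMW.fpf (V := V) hP (fun e => rL (e.trans (card_dvd_of_le VL))) s2 s1 (fun e => AL ?_) fun x hx v hv => ?_
  · have e5 := h1.index_lt
    have e6 := h.index_ne
    have e7 : N.index ≠ 0 := index_ne_zero_of_finite
    rw [← Subgroup.map_commutator, ← s3, relIndex, subgroupOf, comap_map_eq_self_of_injective (subtype_injective _),
      e4, St.index_quot (LA.trans St.A_le)] at e5
    obtain e | e : N.index = 2 ∨ N.index = 3 := by omega
    · exact e ▸ Nat.prime_two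
    · exact e ▸ Nat.prime_three
  · rw [e, Subgroup.map_bot, eq_comm, Subgroup.map_eq_bot_iff, QuotientGroup.ker_mk'] at s3
    exact s3
  · have e1 : σ x * v * (σ x)⁻¹ = v := congrArg Subtype.val hv
    refine Subtype.ext (h.fpf (h.comm_le (hσ x).1) (fun c => hx ?_) (LA (VL v.2)) (mul_inv_eq_iff_eq_mul.1 e1) ?_)
    · obtain ⟨y, hy, e⟩ := s3.ge ⟨σ x, h.inf.le ⟨c, (hσ x).1⟩, (hσ x).2⟩
      exact (Subtype.ext e : y = x) ▸ hy
    · exact (cop.symm.coprime_dvd_left (hc ▸ (orderOf_map_dvd σ x).trans (orderOf_dvd_natCard x))).coprime_dvd_right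
        (L.orderOf_dvd_natCard (VL v.2))

end CfsgLib.LMW
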