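import Cfsg.Agent.Lib.LMW.Api
import Cfsg.Agent.Lib.LMW.Lay
import Cfsg.Agent.Lib.LMW.Cam
import Cfsg.Agent.Lib.Coprime.Glauberman

/-! LMW, package STAR: the derived group is an `r`-group (proof: plans/LMW.md, STAR). -/

set_option autoImplicit false
set_option linter.unusedSectionVars false
set_option linter.unusedVariables false

namespace CfsgLib.LMW

open Cfsg CfsgLib.Char CfsgLib.CharDeep CfsgLib.ChDeg CfsgLib.RelDeg CfsgLib.NDiv Subgroup MulAction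
open scoped commutatorElement

open CfsgLib.LieM

variable {G : Type*} [Group G] [Finite G] {N : Subgroup G} [N.Normal] {g₀ : G} {r : ℕ} [Fact r.Prime]

namespace Sta

theorem nilp {X Y : Subgroup G} [X.Normal] [Y.Normal] {n : ℕ} (hn : N.lowerCentralSeries n = ⊥) (hX : X ≤ N)
    (h : X ≤ Y ⊔ ⁅X, N⁆) : X ≤ Y := by
  have key : ∀ k, X ≤ Y ⊔ (X ⊓ N.lowerCentralSeries k) := fun k => by
    induction k with
    | zero => exact le_sup_of_le_right (le_inf le_rfl hX)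
    | succ k ih =>
      refine h.trans (sup_le le_sup_left ((commutator_mono ih le_rfl).trans ?_))
      have : (N.lowerCentralSeries (k + 1)).Normal := by
        clear ih
        induction k with
        | zero => exact inferInstanceAs (⁅N, N⁆).Normal
        | succ k ih => exact inferInstanceAs (⁅N.lowerCentralSeries (k + 1), N⁆).Normal
      refine Core.commutator_sup_left_le (le_normalizer_of_normal) (le_normalizer_of_normal)
        (le_sup_of_le_left (commutator_le_left _ _)) (le_sup_of_le_right (le_inf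
          ((commutator_mono inf_le_left le_rfl).trans (commutator_le_left _ _))
          (commutator_mono inf_le_right le_rfl)))
  have := key n
  rwa [hn, inf_bot_eq, sup_bot_eq] at this

theorem tl (h : St N g₀) {Y Z : Subgroup G} [Y.Normal] (ZN : ⁅Z, N⁆ ≤ Y) {g k : G} (hg : g ∉ N)
    (gZ : ∀ z ∈ Z, ⁅z, g⁆ ∈ Y) (kB : ∀ b ∈ _root_.commutator G, ⁅k, b⁆ ∈ Z)
    (kA : ∀ a ∈ ⁅N, N⁆, ⁅k, a⁆ ∈ Y) (kg : ∀ b ∈ _root_.commutator G, ⁅k⁻¹ * (g * k * g⁻¹), b⁆ ∈ Y)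
    {b : G} (hb : b ∈ _root_.commutator G) : ⁅k, b⁆ ∈ Y := by
  let π := QuotientGroup.mk' Y
  have c1 : ∀ b ∈ _root_.commutator G, ∀ n ∈ N, π n * π ⁅k, b⁆ * (π n)⁻¹ = π ⁅k, b⁆ := fun b hb n hn => by
    rw [mul_inv_eq_iff_eq_mul]
    exact ((commutator_mem_iff_commute Y _ n).1 (ZN (commutator_mem_commutator (kB b hb) hn))).symm
  have mul : ∀ b ∈ _root_.commutator G, ∀ c ∈ _root_.commutator G,
      π ⁅k, b * c⁆ = π ⁅k, b⁆ * π ⁅k, c⁆ := fun b hb c hc => by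
    rw [← c1 c hc b (h.comm_le hb), ← map_inv, ← map_mul, ← map_mul, ← map_mul]
    congr 1
    simp only [commutatorElement_def]; group
  have cj : ∀ b ∈ _root_.commutator G, π ⁅k, g * b * g⁻¹⁆ = π ⁅k, b⁆ := fun b hb => by
    have e1 : π g * π ⁅k, b⁆ * (π g)⁻¹ = π ⁅k, b⁆ := by
      rw [mul_inv_eq_iff_eq_mul]
      exact ((commutator_mem_iff_commute Y _ g).1 (gZ _ (kB b hb))).symm
    have e2 : π (k * ⁅k⁻¹ * (g * k * g⁻¹), g * b * g⁻¹⁆ * k⁻¹) = 1 := (QuotientGroup.eq_one_iff _).2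
      (Normal.conj_mem inferInstance _ (kg _ (Normal.conj_mem inferInstance b hb g)) k)
    rw [← e1, ← one_mul (π ⁅k, g * b * g⁻¹⁆), ← e2, ← map_inv, ← map_mul, ← map_mul, ← map_mul]
    congr 1
    simp only [commutatorElement_def]; group
  obtain ⟨x, hx, e⟩ := h.onto hg hb
  have e3 : b = x * (g * x⁻¹ * g⁻¹) * (⁅x, g⁆⁻¹ * b) := by simp only [commutatorElement_def]; group
  have hx' := Normal.conj_mem (inferInstance : (_root_.commutator G).Normal) _ (inv_mem hx) g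
  rw [← QuotientGroup.eq_one_iff]
  show π ⁅k, b⁆ = 1
  rw [e3, mul _ (mul_mem hx hx') _ (h.lt.le e), mul _ hx _ hx', cj _ (inv_mem hx), ← mul _ hx _ (inv_mem hx),
    mul_inv_cancel, commutatorElement_one_right, map_one, one_mul]
  exact (QuotientGroup.eq_one_iff _).2 (kA _ e)

theorem camq (h : St N g₀) {Q Y : Subgroup G} [Y.Normal] (sup : Q ⊔ _root_.commutator G = N)
    (QB : ⁅Q, _root_.commutator G⁆ ≤ Y) {x y : G} (hx : x ∈ _root_.commutator G) (hx' : x ∉ ⁅N, N⁆)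
    (hy : y ∈ ⁅N, N⁆) : ∃ b ∈ _root_.commutator G, ⁅x, b⁆⁻¹ * y ∈ Y := by
  obtain ⟨n, hn, e⟩ := h.cam (h.comm_le hx) (fun c => hx' (h.inf.le ⟨c, hx⟩)) hy
  rw [← sup, sup_comm] at hn
  obtain ⟨b, hb, k, hk, rfl⟩ := (mem_sup_of_normal_left).1 hn
  refine ⟨b, hb, ?_⟩
  have : ⁅x, b⁆⁻¹ * y = b * ⁅k, x⁆⁻¹ * b⁻¹ := by rw [← e]; simp only [commutatorElement_def]; group
  rw [this]
  exact Normal.conj_mem inferInstance _ (inv_mem (QB (commutator_mem_commutator hk hx))) b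

theorem mem_lcs {B : Subgroup G} {i : ℕ} {x : B} : x ∈ lcs B i ↔ (x : G) ∈ B.lowerCentralSeries i := by
  rw [← top_subtype_lowerCentralSeries]
  exact (mem_map_iff_mem B.subtype_injective).symm

end Sta

open Sta

theorem St.dvd_rel (h : St N g₀) (hB : IsPGroup r (_root_.commutator G)) :
    r ∣ (⁅N, N⁆).relIndex (_root_.commutator G) := by
  obtain ⟨k, hk⟩ := IsPGroup.iff_card.1 hB
  obtain ⟨j, -, hj⟩ := (Nat.dvd_prime_pow Fact.out).1 (hk ▸ relIndex_dvd_card ⁅N, N⁆ (_root_.commutator G))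
  rw [hj]
  refine dvd_pow_self r fun e => h.lt.not_ge (relIndex_eq_one.1 ?_)
  rw [hj, e, pow_zero]

theorem St.not_dvd (h : St N g₀) (hB : IsPGroup r (_root_.commutator G)) : ¬ r ∣ N.index := fun c =>
  (Fact.out : r.Prime).ne_one (Nat.eq_one_of_dvd_coprimes h.cop (h.dvd_rel hB) c)

theorem St.cop_of_le (h : St N g₀) (hB : IsPGroup r (_root_.commutator G)) {Z : Subgroup G}
    (hZ : Z ≤ _root_.commutator G) : N.index.Coprime (Nat.card Z) := by
  obtain ⟨k, hk⟩ := IsPGroup.iff_card.1 (hB.to_le hZ)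
  rw [hk]
  exact (((Fact.out : r.Prime).coprime_iff_not_dvd.2 (h.not_dvd hB)).symm).pow_right k

theorem St.star (h : St N g₀) (hB : IsPGroup r (_root_.commutator G)) (hg : (orderOf g₀).Coprime r) :
    Cam (_root_.commutator G) 3 ∧ lcs (_root_.commutator G) 3 = ⊥ ∧
      (lcs (_root_.commutator G) 1).map (_root_.commutator G).subtype = ⁅N, N⁆ ∧
      (lcs (_root_.commutator G) 2).map (_root_.commutator G).subtype = ⁅⁅N, N⁆, N⁆ ∧
      ⁅⁅⁅N, N⁆, N⁆, N⁆ = ⊥ ∧ (∀ θ, IsIrrCharacter N θ → ∃ k, charDegree θ = r ^ k) ∧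
      ∃ Q : Subgroup G, (∀ q ∈ Q, q * g₀ = g₀ * q) ∧ Q ⊔ ⁅N, N⁆ = K0 N ∧
        ⁅Q, _root_.commutator G⁆ ≤ ⁅⁅N, N⁆, N⁆ ∧
        (⁅⁅N, N⁆, N⁆ ≠ ⊥ → ⁅Q, _root_.commutator G⁆ = ⊥ ∧ ⁅Q, Q⁆ ≤ ⁅⁅N, N⁆, N⁆) := by
  have hr : r.Prime := Fact.out
  set B := _root_.commutator G with hBdef
  set A := ⁅N, N⁆ with hA
  set A3 := ⁅A, N⁆ with hA3
  set A4 := ⁅A3, N⁆ with hA4
  have BN : B ≤ N := h.comm_le
  have AB : A ≤ B := h.lt.le
  have AN : A ≤ N := St.A_le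
  have A3A : A3 ≤ A := commutator_le_left _ _
  have A43 : A4 ≤ A3 := commutator_le_left _ _
  obtain ⟨M, hM, MN, M1, k, M2⟩ := h.exists_compl hr (h.dvd_rel hB)
  have MZ : ∀ g : G, ∀ m ∈ M, ⁅m, g⁆ = 1 := fun g m hm => by
    obtain ⟨j, hj⟩ := hB ⟨_, commutator_mem_commutator (mem_top m) (mem_top g)⟩
    exact eq_one_of_cop ((hr.coprime_iff_not_dvd.2 M1).pow_left j) (congrArg Subtype.val hj)
      (congrArg Subtype.val (pow_card_eq_one' (x := (⟨_, commutator_le_left M ⊤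
        (commutator_mem_commutator hm (mem_top g))⟩ : M))))
  obtain ⟨n, hn⟩ : ∃ n, N.lowerCentralSeries n = ⊥ := by
    have : IsPGroup r (N ⧸ M.subgroupOf N) := IsPGroup.iff_card.2 ⟨k, M2⟩
    obtain ⟨n, hn⟩ := (isNilpotent_section_iff M N).1 this.isNilpotent
    exact ⟨n + 1, eq_bot_iff.2 (commutator_le.2 fun a ha b _ => MZ b a (hn ha))⟩
  have pw : ∀ θ, IsIrrCharacter N θ → ∃ k, charDegree θ = r ^ k := fun θ hθ => by
    obtain ⟨j, -, hj⟩ := (Nat.dvd_prime_pow hr).1 (((deg_dvd_index_center hθ).trans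
      (index_dvd_of_le (H := M.subgroupOf N) fun m hm => mem_center_iff.2 fun g => Subtype.ext
        (commutatorElement_eq_one_iff_mul_comm.1 (MZ g m hm)).symm)).trans (dvd_of_eq M2))
    exact ⟨j, hj⟩
  obtain ⟨i, i1, i2⟩ := h.exists_cent A3A le_rfl le_rfl (h.cop_of_le hB AB)
  have KB : ⁅K0 N, B⁆ ≤ A3 := commutator_le.2 fun k hk b hb => tl h le_rfl i1 i2
    (fun b _ => (mem_K0.1 hk).2 b) (fun a ha => by
      rw [commutator_comm]; exact commutator_mem_commutator hk.1 ha)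
    (fun b hb => commutator_mem_commutator (by
      rw [show k⁻¹ * (g₀ ^ i * k * (g₀ ^ i)⁻¹) = k⁻¹ * ⁅k, g₀ ^ i⁆⁻¹ * k⁻¹⁻¹ by
        simp only [commutatorElement_def]; group]
      exact Normal.conj_mem inferInstance _ (inv_mem ((mem_K0.1 hk).2 _)) _) (BN hb)) hb
  have BK : ⁅B, K0 N⁆ ≤ A3 := commutator_comm (K0 N) B ▸ KB
  have e1 : ⁅B, B⁆ = A := by
    refine le_antisymm (commutator_mono BN BN) (nilp hn AN fun y hy => ?_)
    obtain ⟨x, hx, hx'⟩ := SetLike.exists_of_lt h.lt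
    obtain ⟨b, hb, e⟩ := camq h h.sup KB hx hx' hy
    rw [← mul_inv_cancel_left ⁅x, b⁆ y]
    exact mul_mem (mem_sup_left (commutator_mem_commutator hx hb)) (mem_sup_right e)
  have AK : ⁅A, K0 N⁆ ≤ A4 := e1 ▸ Core.three_subgroups (commutator_mono BK BN) (commutator_mono KB BN)
  have step : ∀ X : Subgroup G, [X.Normal] → X ≤ N → ⁅X, K0 N⁆ ≤ ⁅⁅X, N⁆, N⁆ → ⁅X, B⁆ = ⁅X, N⁆ := fun X _ hX e =>
    le_antisymm (commutator_mono le_rfl BN) (nilp hn ((commutator_le_left _ _).trans hX) (by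
      conv_lhs => rw [← h.sup]
      exact Core.commutator_sup_right_le le_normalizer_of_normal le_normalizer_of_normal
        (le_sup_of_le_right e) le_sup_left))
  have e2 : ⁅A, B⁆ = A3 := step A AN AK
  have e3 : ⁅A3, B⁆ = A4 := step A3 (A3A.trans AN) (by
    conv_lhs => rw [← e2]
    exact Core.three_subgroups ((commutator_mono BK le_rfl).trans (Core.commutator_commutator_self_le le_rfl))
      (commutator_mono (commutator_comm (K0 N) A ▸ AK) BN))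
  have l1 : B.lowerCentralSeries 1 = A := e1
  have l2 : B.lowerCentralSeries 2 = A3 := by rw [Subgroup.lowerCentralSeries_succ, l1, e2]
  have l3 : B.lowerCentralSeries 3 = A4 := by rw [Subgroup.lowerCentralSeries_succ, l2, e3]
  have cam : ∀ Q : Subgroup G, Q ⊔ B = N → ⁅Q, B⁆ ≤ A4 → Cam B 3 := fun Q a b x hx y hy => by
    rw [mem_lcs, l1] at hx hy
    obtain ⟨c, hc, e⟩ := camq h a b x.2 hx hy
    exact ⟨⟨c, hc⟩, mem_lcs.2 (l3 ▸ e)⟩
  let Q := K0 N ⊓ centralizer (zpowers g₀ : Set G)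
  have Qg : ∀ q ∈ Q, ∀ j : ℤ, g₀ ^ j * q = q * g₀ ^ j := fun q hq j => hq.2 _ ⟨j, rfl⟩
  have QA : Q ⊔ A = K0 N := by
    refine le_antisymm (sup_le inf_le_left St.A_le_K0) fun k hk => ?_
    obtain ⟨j, hj⟩ := IsPGroup.iff_card.1 (hB.to_le AB)
    obtain ⟨u, hu, e⟩ := Coprime.exists_mul_mem_centralizer (U := A) (A := zpowers g₀) le_normalizer_of_normal
      (by rw [Nat.card_zpowers, hj]; exact hg.pow_right j) (Or.inl inferInstance) k fun a _ => by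
        rw [show k⁻¹ * (a * k * a⁻¹) = k⁻¹ * ⁅k, a⁆⁻¹ * k⁻¹⁻¹ by simp only [commutatorElement_def]; group]
        exact Normal.conj_mem inferInstance _ (inv_mem ((mem_K0.1 hk).2 _)) _
    rw [← mul_inv_cancel_right k u]
    exact mul_mem (mem_sup_left ⟨mul_mem hk (St.A_le_K0 hu), e⟩) (mem_sup_right (inv_mem hu))
  have QB : Q ⊔ B = N := by rw [← h.sup, ← QA, sup_assoc, sup_eq_right.2 AB]
  have QB3 : ⁅Q, B⁆ ≤ A3 := (commutator_mono inf_le_left le_rfl).trans KB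
  have fin : Cam B 3 ∧ A4 = ⊥ ∧ (A3 ≠ ⊥ → ⁅Q, B⁆ = ⊥ ∧ ⁅Q, Q⁆ ≤ A3) := by
    by_cases c : A3 = ⊥
    · exact ⟨cam _ QB (QB3.trans (c.le.trans bot_le)), eq_bot_iff.2 (A43.trans c.le), fun n => absurd c n⟩
    obtain ⟨j, j1, j2⟩ := h.exists_cent A43 A3A le_rfl (h.cop_of_le hB (A3A.trans AB))
    have QB4 : ⁅Q, B⁆ ≤ A4 := commutator_le.2 fun k hk b hb => tl h le_rfl j1 j2
      (fun b hb => KB (commutator_mem_commutator hk.1 hb))
      (fun a ha => AK (by rw [commutator_comm]; exact commutator_mem_commutator hk.1 ha))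
      (fun b hb => by rw [Qg k hk]; simp) hb
    have c3 := cam _ QB QB4
    have ne : ¬ lcs B 2 ≤ lcs B 3 := fun e => c (eq_bot_iff.2 (nilp hn (A3A.trans AN) fun z hz =>
      mem_sup_right (l3 ▸ mem_lcs.1 (e (mem_lcs.2 (l2 ▸ hz : ((⟨z, AB (A3A hz)⟩ : B) : G) ∈ _))) : z ∈ A4)))
    have c4 : A4 = ⊥ := by rw [← l3, ← top_subtype_lowerCentralSeries]; exact (congrArg _ (c3.four hB ne)).trans (map_bot _)
    have c5 : ⁅Q, B⁆ = ⊥ := eq_bot_iff.2 (c4 ▸ QB4)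
    refine ⟨c3, c4, fun _ => ⟨c5, fun a ha => by_contra fun a3 => c (eq_bot_iff.2 fun z hz => ?_)⟩⟩
    have aA : a ∈ A := commutator_mono (inf_le_left.trans K0_le) (inf_le_left.trans K0_le) ha
    obtain ⟨b, e⟩ := c3.onto2 hB (a := ⟨a, AB aA⟩) (mem_lcs.2 (l1 ▸ aA)) (fun e => a3 (l2 ▸ mem_lcs.1 e))
      (z := ⟨z, AB (A3A hz)⟩) (mem_lcs.2 (l2 ▸ hz))
    have e' : ⁅a, (b : G)⁆⁻¹ * z ∈ A4 := l3 ▸ mem_lcs.1 e
    have e'' : ⁅a, (b : G)⁆ = 1 :=
      mem_bot.1 (c5 ▸ commutator_mem_commutator (Core.commutator_le_of_le le_rfl le_rfl ha) b.2)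
    rwa [e'', inv_one, one_mul, c4] at e'
  refine ⟨fin.1, ?_, (top_subtype_lowerCentralSeries B 1).trans l1, (top_subtype_lowerCentralSeries B 2).trans l2,
    fin.2.1, pw, Q, fun q hq => (hq.2 _ (mem_zpowers g₀)).symm, QA, QB3, fin.2.2⟩
  rw [← map_eq_bot_iff_of_injective _ B.subtype_injective, top_subtype_lowerCentralSeries, l3, fin.2.1]

end CfsgLib.LMW
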