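import Cfsg.Agent.Lib.LMW.Star
import Cfsg.Agent.Lib.LMW.Lay2

/-! LMW, package STAR2: the degrees when the derived group is an `r`-group (proof: plans/LMW.md, STAR2). -/

set_option autoImplicit false
set_option linter.unusedSectionVars false

namespace CfsgLib.LMW

open Cfsg CfsgLib.Char CfsgLib.CharDeep CfsgLib.ChDeg CfsgLib.RelDeg CfsgLib.NDiv Subgroup MulAction
open scoped commutatorElement

open CfsgLib.LieM

variable {G : Type*} [Group G] [Finite G] {N : Subgroup G} [N.Normal] {g₀ : G} {r : ℕ} [Fact r.Prime]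

theorem St.star_main (h : St N g₀) (hB : IsPGroup r (_root_.commutator G)) :
    derivedSeries G 3 = ⊥ ∧ ∃ a b, ∀ χ, IsIrrCharacter G χ →
      charDegree χ = 1 ∨ charDegree χ = N.index ∨ charDegree χ = a ∨ charDegree χ = b := by
  have hr : r.Prime := Fact.out
  obtain ⟨g₁, h, hg⟩ := h.exists_cop hr (h.not_dvd hB)
  obtain ⟨c3, l3, l1, l2, a4, pw, Q, Qg, QA, QB, fin⟩ := h.star hB hg
  set B := _root_.commutator G
  set A := ⁅N, N⁆
  set A3 := ⁅A, N⁆
  have BN : B ≤ N := h.comm_le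
  have AB : A ≤ B := h.lt.le
  have A3A : A3 ≤ A := commutator_le_left _ _
  have QN : Q ≤ N := le_sup_left.trans (QA.le.trans K0_le)
  have sup : Q ⊔ B = N := by rw [← h.sup, ← QA, sup_assoc, sup_eq_right.2 AB]
  have nl : ∀ {θ : N → ℂ} {Z : Subgroup G}, IsIrrCharacter N θ → Z ≤ A → ¬ Z.subgroupOf N ≤ cker θ →
      charDegree θ ≠ 1 := fun hθ hZ k e =>
    k fun z hz => (deg_eq_one_iff_commutator_le hθ).1 e (Palfy.mem_comm.2 (hZ hz))
  obtain ⟨a, ha⟩ := h.lay hr (Y := A3) (Z := A) (B := B) A3A le_rfl le_rfl (h.cop_of_le hB AB) Qg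
    (commutator_mono QN QN) QB sup pw fun θ hθ _ k x hx => h.vanish hθ (nl hθ le_rfl k) (QA ▸ hx)
  obtain ⟨b, hb⟩ : ∃ b, ∀ θ, IsIrrCharacter N θ → ¬ A3.subgroupOf N ≤ cker θ → dd N θ = b := by
    by_cases c : A3 = ⊥
    · exact ⟨0, fun θ _ k => absurd (by rw [c, bot_subgroupOf]; exact bot_le) k⟩
    obtain ⟨QB', QQ⟩ := fin c
    have ZN : A3 ≤ N := commutator_le_right _ _
    obtain ⟨b, hb⟩ := h.lay hr (Y := ⊥) (Z := A3) (B := B) bot_le A3A a4.le (h.cop_of_le hB (A3A.trans AB)) Qg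
      QQ QB'.le sup pw fun θ hθ k0 k x hx => by
        by_cases x0 : (x : G) ∈ K0 N
        swap; · exact h.vanish hθ (nl hθ A3A k) x0
        rw [← QA, ← SetLike.mem_coe, mul_normal] at x0
        obtain ⟨q, hq, a, ha, e⟩ := x0
        have a3 : a ∉ A3 := fun a3 => hx (e ▸ mul_mem (mem_sup_left hq) (mem_sup_right a3))
        obtain ⟨z, hz, z0⟩ := SetLike.not_le_iff_exists.1 k
        obtain ⟨ν, -, hν⟩ := exists_cen ZN a4.le hθ k0
        obtain ⟨a', ha', rfl⟩ := l1.ge ha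
        obtain ⟨z', hz', ez⟩ := l2.ge hz
        obtain ⟨c, hc⟩ := c3.onto2 hB ha' (fun e => a3 (l2.le ⟨_, e, rfl⟩)) hz'
        rw [l3, mem_bot, inv_mul_eq_one] at hc
        have e1 : ⁅(a' : G), (c : G)⁆ = z := (congrArg Subtype.val hc).trans ez
        have e2 : q * c = c * q :=
          commutatorElement_eq_one_iff_mul_comm.1 (QB'.le (commutator_mem_commutator hq c.2))
        have e3 : (z : G) * q = q * z :=
          commutatorElement_eq_one_iff_mul_comm.1 (a4.le (commutator_mem_commutator hz (QN hq)))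
        have e4 : inclusion ZN ⟨z, hz⟩ * (⟨c, BN c.2⟩ * x * (⟨c, BN c.2⟩ : N)⁻¹) = x := Subtype.ext (by
          change (z : G) * (c * x * (c : G)⁻¹) = x
          rw [← e]
          change (z : G) * (c * (q * a') * (c : G)⁻¹) = q * a'
          rw [← mul_assoc (c : G), ← e2, ← mul_assoc, ← mul_assoc, ← mul_assoc, e3, ← e1, commutatorElement_def]
          group)
        have e5 := hν ⟨z, hz⟩ (⟨c, BN c.2⟩ * x * (⟨c, BN c.2⟩ : N)⁻¹)
        rw [e4, isClassFunction_of_isIrr hθ] at e5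
        by_contra n
        exact z0 ((hν.cker_iff hθ ⟨z, hz⟩).2 (Units.val_eq_one.1 ((mul_eq_right₀ n).1 e5.symm)))
    exact ⟨b, fun θ hθ k => hb θ hθ (by rw [bot_subgroupOf]; exact bot_le) k⟩
  have d2 : derivedSeries G 2 ≤ A := by
    rw [derivedSeries_succ, derivedSeries_one]
    exact commutator_mono BN BN
  refine ⟨?_, a, b, fun χ hχ => ?_⟩
  · rw [derivedSeries_succ]
    refine eq_bot_iff.2 ((commutator_mono d2 d2).trans (commutator_le.2 fun x hx y hy => ?_))
    obtain ⟨x, hx', rfl⟩ := l1.ge hx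
    obtain ⟨y, hy', rfl⟩ := l1.ge hy
    have e : ⁅x, y⁆ ∈ lcs B 3 := commutator_mem_lcs (i := 1) (j := 1) hx' hy'
    rw [l3, mem_bot] at e
    rw [← map_commutatorElement, e, map_one]
    exact one_mem _
  · obtain ⟨θ, hθ, -, e⟩ := h.exists_under hχ
    rw [e]
    by_cases k3 : A3.subgroupOf N ≤ cker θ
    swap; · exact .inr (.inr (.inr (hb θ hθ k3)))
    by_cases k : A.subgroupOf N ≤ cker θ
    swap; · exact .inr (.inr (.inl (ha θ hθ k3 k)))
    exact (h.dd_lin hθ ((deg_eq_one_iff_commutator_le hθ).2 fun x hx => k (Palfy.mem_comm.1 hx))).imp_right .inl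

end CfsgLib.LMW
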