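import Cfsg.Agent.Lib.LMW.Defs
import Cfsg.Agent.Lib.Frob.Complement

/-! LMW, package START: the two cases of a minimal nonabelian quotient (proof: plans/LMW.md, START). -/

set_option autoImplicit false
set_option linter.unusedSectionVars false

namespace CfsgLib.LMW

open Cfsg CfsgLib.Char CfsgLib.CharDeep CfsgLib.ChDeg CfsgLib.RelDeg CfsgLib.NDiv Subgroup MulAction
open scoped commutatorElement

variable {G : Type*} [Group G] [Finite G]

/-- a nonlinear character of a normal Hall subgroup -/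
theorem Start.hall (nd : ND G) {M : Subgroup G} [M.Normal] (hM : M.index.Coprime (Nat.card M)) {θ : M → ℂ}
    (hθ : IsIrrCharacter M θ) (h1 : charDegree θ ≠ 1) :
    (∃ ξ, IsIrrCharacter G ξ ∧ charDegree ξ = (inertia M θ).index * charDegree θ) ∧
      ⁅inertia M θ, inertia M θ⁆ ≤ M := by
  have := Fintype.ofFinite G
  have := Fintype.ofFinite M
  have := Fintype.ofFinite (inertia M θ)
  have h := le_inertia M (isClassFunction_of_isIrr hθ)
  obtain ⟨μ, hμ⟩ := exists_hom_detChar θ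
  obtain ⟨η, a1, a2, -⟩ := Garr.exists_ext h hθ le_rfl (m := Nat.card M)
    (hM.coprime_dvd_left (relIndex_dvd_index_of_le h)) (deg_dvd_card hθ) fun n => by
      rw [hμ, ← Units.val_pow_eq_pow_val, ← map_pow, pow_card_eq_one', map_one, Units.val_one]
  have hc := isCharacter_of_isIrr a1
  have b1 : IsIrrCharacter (M.subgroupOf (inertia M θ)) fun n => η n := by
    convert isIrr_comp_mulEquiv (subgroupOfEquivOfLe h) hθ using 2 with n
    exact a2 ⟨n, n.2⟩
  have key : ∀ β, IsIrrCharacter (inertia M θ) β → M.subgroupOf _ ≤ cker β →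
      ∃ χ, IsIrrCharacter G χ ∧ charDegree χ = (inertia M θ).index * charDegree θ * charDegree β := by
    intro β hβ hk
    have b2 := (le_cker_iff (isCharacter_of_isIrr hβ)).1 hk
    have b3 := gallagher_isIrr _ hc b1 hβ b2
    have b4 : (fun n : M => (β * η) ⟨n, h n.2⟩) = β 1 • θ := funext fun n => by
      simp only [Pi.mul_apply, Pi.smul_apply, smul_eq_mul]
      rw [a2, b2 _ n.2]
    refine ⟨_, isIrr_indFun_inertia M _ h hθ rfl b3 ?_, ?_⟩
    · rw [b4, classInner_smul_left, classInner_irr_self hθ, mul_one]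
      exact irr_one_ne_zero hβ
    · rw [deg_ind _ (isCharacter_of_isIrr b3), deg_mul (isCharacter_of_isIrr hβ) hc, deg_congr (a2 1)]
      ring
  obtain ⟨χ, hχ, e⟩ := key _ isIrr_one (by rw [cker_one]; exact le_top)
  rw [deg_one, mul_one] at e
  refine ⟨⟨χ, hχ, e⟩, ?_⟩
  rw [← map_subtype_commutator]
  rintro _ ⟨c, hc, rfl⟩
  by_contra h0
  obtain ⟨β, hβ, b1, b2⟩ := exists_irr_le_cker_not_mem (M.subgroupOf (inertia M θ)) (g := c) h0
  obtain ⟨χ', hχ', e'⟩ := key β hβ b1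
  have := nd χ χ' hχ hχ' (by rw [e]; exact fun q => h1 (Nat.eq_one_of_mul_eq_one_left q))
    (by rw [e, e']; exact dvd_mul_right _ _)
  rw [e', ← e] at this
  exact b2 ((deg_eq_one_iff_commutator_le hβ).1 ((Nat.mul_eq_left (deg_pos hχ).ne').1 this.symm) hc)

theorem nilq (nd : ND G) {K Z : Subgroup G} [K.Normal] {p : ℕ} {χ : G → ℂ} (h : CaseA G K p Z χ) :
    ∀ ψ, IsIrrCharacter G ψ → charDegree ψ = 1 ∨ charDegree ψ = charDegree χ := by
  obtain ⟨-, e, -, he⟩ := h.deg_pow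
  have h' := h
  obtain ⟨hp, hK, -, -, -, -, hχ, h1, hk, -⟩ := h'
  have := Fact.mk hp
  have hM := not_dvd_card_pResidual hp (G := G) fun ψ hψ n => by
    by_contra c
    have h2 := deg_mul (isCharacter_of_isIrr hχ) (isCharacter_of_isIrr hψ)
    have := nd ψ _ hψ (h.false_of_coprime hψ c) n (h2 ▸ dvd_mul_left _ _)
    rw [h2, eq_comm, Nat.mul_eq_right (deg_pos hψ).ne'] at this
    exact h1 this
  have := Transfer.pResidual_normal p G
  obtain ⟨k, hi⟩ := Transfer.exists_index_pResidual (p := p) (G := G)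
  have MK := Transfer.pResidual_le_of_isPGroup_quotient hK
  generalize pResidual p G = M at *
  have := Fintype.ofFinite M
  have lin : ∀ θ : M → ℂ, IsIrrCharacter M θ → charDegree θ = 1 := fun θ hθ => by
    by_contra c
    obtain ⟨⟨ξ, hξ, e1⟩, e2⟩ := Start.hall nd (hi ▸ (hp.coprime_iff_not_dvd.2 hM).pow_left k) hθ c
    have e3 := deg_le_index_of_commutator_le_cker hχ _ (e2.trans (MK.trans hk.ge))
    obtain ⟨j, -, hj⟩ := (Nat.dvd_prime_pow hp).1 (hi ▸ index_dvd_of_le (le_inertia M (isClassFunction_of_isIrr hθ)))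
    rw [hj] at e1 e3
    have e4 : charDegree χ ∣ p ^ j := he ▸ pow_dvd_pow p ((Nat.pow_le_pow_iff_right hp.one_lt).1 (he ▸ e3))
    have e5 := nd χ ξ hχ hξ h1 (e1 ▸ e4.mul_right _)
    rw [e5, e1] at e3
    have := deg_pos hθ
    have := pow_pos hp.pos j
    exact c (by nlinarith)
  intro ψ hψ
  obtain ⟨θ, hθ, o⟩ := exists_irr_under M hψ
  obtain ⟨a, ha, hd⟩ := exists_deg_eq_mul M hψ hθ o
  rw [lin θ hθ, mul_one] at hd
  obtain ⟨j, -, hj⟩ := (Nat.dvd_prime_pow hp).1 (hi ▸ ha)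
  rw [← hd] at hj
  rcases le_total j e with c | c
  · exact or_iff_not_imp_left.2 fun n => nd ψ χ hψ hχ n (by rw [hj, he]; exact pow_dvd_pow p c)
  · exact .inr (nd χ ψ hχ hψ h1 (by rw [hj, he]; exact pow_dvd_pow p c)).symm

theorem Start.cyc {K N : Subgroup G} [K.Normal] [N.Normal] {q : ℕ} (h : CaseB G K q N) : IsCyclic (G ⧸ N) := by
  obtain ⟨hq, -, KN, b1, b2, b3, -, b4, b5, b6, -⟩ := h
  have : (N.map (QuotientGroup.mk' K)).Normal := Normal.map inferInstance _ (QuotientGroup.mk'_surjective K)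
  have cm : ∀ a ∈ N, ∀ b ∈ N, Commute (a : G ⧸ K) b := fun a ha b hb =>
    (commutator_mem_iff_commute K a b).1 (b2 (commutator_mem_commutator ha hb))
  let _ : CommGroup (N.map (QuotientGroup.mk' K)) := { (inferInstance : Group _) with
    mul_comm := by rintro ⟨_, a, ha, rfl⟩ ⟨_, b, hb, rfl⟩; exact Subtype.ext (cm a ha b hb) }
  let ρ : G ⧸ N →* MulAut (N.map (QuotientGroup.mk' K)) :=
    QuotientGroup.lift N (MulAut.conjNormal.comp (QuotientGroup.mk' K)) fun n hn => by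
      ext ⟨_, a, ha, rfl⟩
      exact mul_inv_eq_iff_eq_mul.2 (cm n hn a ha)
  have ab : ∀ x y : G ⧸ N, x * y = y * x := fun x y => by
    obtain ⟨x, rfl⟩ := QuotientGroup.mk_surjective x
    obtain ⟨y, rfl⟩ := QuotientGroup.mk_surjective y
    exact (commutator_mem_iff_commute N x y).1 (b1 (commutator_mem_commutator (mem_top x) (mem_top y)))
  refine Frob.PQCond.isCyclic_of_comm (fun x y hx hy _ => ⟨ab _ _, fun e => by_contra fun c => ?_⟩) ⟨⟨ab⟩⟩
  obtain ⟨w, wN, wK⟩ : ∃ w ∈ N, w ∉ K := by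
    by_contra! c
    exact hq.not_dvd_one (relIndex_eq_one.2 c ▸ b4)
  have h1 := Frob.pow_eq_one_of_fpf_rank_two ρ (fun a ha v hv => by
    obtain ⟨a, rfl⟩ := QuotientGroup.mk_surjective a
    obtain ⟨_, v, vN, rfl⟩ := v
    by_contra c
    refine ha ((QuotientGroup.eq_one_iff a).2 (b6 v vN (fun k => c (Subtype.ext ((QuotientGroup.eq_one_iff v).2 k))) a ?_))
    exact (commutator_mem_iff_commute K a v).2 (mul_inv_eq_iff_eq_mul.1 (congrArg Subtype.val hv)))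
    hx (ab x y) rfl (e ▸ pow_orderOf_eq_one y) c ⟨_, w, wN, rfl⟩
  refine wK (mem_of_cop ((Nat.coprime_primes hq hx).2 fun e => b3 (e ▸ orderOf_dvd_natCard x)) (b5 w wN) ?_)
  exact (QuotientGroup.eq_one_iff _).1 (congrArg Subtype.val h1)

theorem exists_St [Group.IsSolvable G] (nd : ND G) {K N : Subgroup G} [K.Normal] {q : ℕ}
    (h : CaseB G K q N)
    (h0 : ¬ ∃ m, ∀ ψ, IsIrrCharacter G ψ → charDegree ψ = 1 ∨ charDegree ψ = m) : ∃ g₀, St N g₀ := by
  have h' := h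
  obtain ⟨-, hN, -, -, b2, -, h1, -, -, -, ⟨χ, hχ, hk, hd⟩, -⟩ := h'
  have := Start.cyc h
  obtain ⟨g, hg⟩ := ChDeg.exists_sup_zpowers_of_isCyclic_quotient N
  refine ⟨g, nd, hN, hg, mt index_eq_one.2 h1, ⟨χ, hχ, hk ▸ b2, hd⟩, fun p D _ hp hD => by_contra fun c => ?_⟩
  obtain ⟨K', _, DK, -, ⟨p', Z, χ', k⟩ | ⟨q', N', hq, -, KN, -, -, a1, a2, a3, -⟩⟩ := exists_cases D c
  · exact h0 ⟨_, nilq nd k⟩
  · have := Fact.mk hp
    obtain ⟨k, hk⟩ := hD.exists_card_eq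
    have e1 : K'.index ∣ p ^ k := hk ▸ index_dvd_of_le DK
    obtain rfl := (Nat.prime_dvd_prime_iff_eq hq hp).1
      (hq.dvd_of_dvd_pow (a3.trans ((relIndex_dvd_index_of_le KN).trans e1)))
    obtain ⟨j, -, hj⟩ := (Nat.dvd_prime_pow hp).1 ((index_dvd_of_le KN).trans e1)
    exact a1 (hj ▸ dvd_pow_self _ fun e => a2 (by rw [hj, e, pow_zero]))

theorem three [Group.IsSolvable G] (nd : ND G) {K N : Subgroup G} [K.Normal] {q : ℕ}
    (h : CaseB G K q N) (hp : N.index.Prime) :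
    ∃ m, ∀ ψ, IsIrrCharacter G ψ → charDegree ψ = 1 ∨ charDegree ψ = N.index ∨ charDegree ψ = m := by
  have h' := h
  obtain ⟨hq, hN, -, b1, b2, b0, h1, b3, b4, b5, ⟨χ, hχ, -, hχd⟩, -⟩ := h'
  have := Fintype.ofFinite N
  have idx : ∀ ξ, IsIrrCharacter G ξ → N.index ∣ charDegree ξ → charDegree ξ = N.index := fun ξ hξ e =>
    (nd χ ξ hχ hξ (hχd ▸ h1) (hχd ▸ e)).symm.trans hχd
  have non : ∀ θ, IsIrrCharacter N θ → charDegree θ ≠ 1 → q ∣ charDegree θ := fun θ hθ n =>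
    (h.dvd_deg hθ).resolve_left fun ⟨ξ, hξ, e⟩ =>
      n ((Nat.mul_eq_left index_ne_zero_of_finite).1 (e.symm.trans (idx ξ hξ (e ▸ dvd_mul_right _ _))))
  have ov : ∀ ψ θ, IsIrrCharacter G ψ → IsIrrCharacter N θ → charDegree θ ≠ 1 →
      classInner (fun n : N => ψ n) θ ≠ 0 → charDegree ψ = charDegree θ := fun ψ θ hψ hθ c hi => by
    obtain ⟨e, he1, he⟩ := exists_deg_eq_mul N hψ hθ hi
    rcases (Nat.dvd_prime hp).1 he1 with rfl | rfl
    · rwa [one_mul] at he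
    · exact absurd ((Nat.mul_eq_left index_ne_zero_of_finite).1
        (he.symm.trans (idx ψ hψ (he ▸ dvd_mul_right _ _)))) c
  have ext : ∀ θ, IsIrrCharacter N θ → charDegree θ ≠ 1 → ∃ ψ, IsIrrCharacter G ψ ∧ (fun n : N => ψ n) = θ ∧
      charDegree ψ = charDegree θ := fun θ hθ c => by
    obtain ⟨ψ, hψ, hi⟩ := exists_irr_over N hθ
    have k := ov ψ θ hψ hθ c hi
    exact ⟨ψ, hψ, res_eq_of_deg_eq N (isCharacter_of_isIrr hψ) hθ hi k.le, k⟩
  obtain ⟨m, hm⟩ := main (I := N) (p := N.index) (q := q) _ N MulAut.conjNormal (K.subgroupOf N) rfl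
    ⟨hp, hq, b1, fun g hg => ⟨⟨g, hg⟩, fun x => rfl⟩, fun n => ⟨n, n.2, fun x => rfl⟩,
      fun x hx => b2 (Palfy.mem_comm.1 hx), fun x => b4 x x.2,
      fun e => hq.not_dvd_one (index_eq_one.2 e ▸ b3), fun g hg x hx c => hg (b5 x x.2 hx g c), dvd_rfl,
      fun θ hθ c g x => by
        obtain ⟨ψ, hψ, rfl, -⟩ := ext θ hθ c
        exact isClassFunction_of_isIrr hψ _ _,
      fun θ hθ c => ⟨non θ hθ c, fun k => by
        obtain ⟨ψ, hψ, -, e⟩ := ext θ hθ c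
        exact b0 (idx ψ hψ (e ▸ k) ▸ e ▸ non θ hθ c)⟩,
      fun θ θ' hθ hθ' c k => by
        obtain ⟨ψ, hψ, -, e⟩ := ext θ hθ c
        obtain ⟨ψ', hψ', -, e'⟩ := ext θ' hθ' fun c' => c (Nat.dvd_one.1 (c' ▸ k))
        exact e ▸ e' ▸ nd ψ ψ' hψ hψ' (e ▸ c) (e ▸ e' ▸ k)⟩
  refine ⟨m, fun ψ hψ => ?_⟩
  obtain ⟨θ, hθ, hi⟩ := exists_irr_under N hψ
  by_cases c : charDegree θ = 1
  · obtain ⟨e, he1, he⟩ := exists_deg_eq_mul N hψ hθ hi
    rw [c, mul_one] at he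
    exact ((Nat.dvd_prime hp).1 (he ▸ he1)).imp_right .inl
  · exact .inr (.inr ((ov ψ θ hψ hθ c hi).trans ((hm θ hθ).resolve_left c)))

end CfsgLib.LMW
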