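import Cfsg.Agent.Lib.LMW.Api
import Cfsg.Agent.Lib.LMW.Cnt
import Cfsg.Agent.Lib.LAE.Sylow
import Cfsg.Agent.Lib.Core.MinNormal

/-! LMW, package TWO: the derived group is a Frobenius group (proof: plans/LMW.md, TWO). -/

set_option autoImplicit false
set_option linter.unusedSectionVars false

namespace CfsgLib.LMW

open Cfsg CfsgLib.Char CfsgLib.CharDeep CfsgLib.ChDeg CfsgLib.RelDeg CfsgLib.NDiv Subgroup MulAction
open scoped commutatorElement

variable {G : Type*} [Group G] [Finite G] {N : Subgroup G} [N.Normal] {g₀ : G}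

namespace Two

/-- the elements of `N` outside `K0` act without fixed points on the elementary abelian group `A` -/
theorem fpf (h : St N g₀) {q : ℕ} (hq : q.Prime) (hqA : ∀ a ∈ ⁅N, N⁆, a ^ q = 1)
    (hm : ¬ q ∣ (⁅N, N⁆).relIndex (_root_.commutator G)) {y : G} (hy : y ∈ N) (hy' : y ∉ K0 N) :
    ∀ a ∈ ⁅N, N⁆, y * a = a * y → a = 1 := fun a ha c => by
  obtain ⟨j, k, hk, e⟩ := part hq y
  have e1 : (K0 N).relIndex N = (⁅N, N⁆).relIndex (_root_.commutator G) := by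
    rw [← h.inf, inf_relIndex_right, ← relIndex_sup_left (_root_.commutator G) (K0 N), h.sup]
  have e2 : y ^ (⁅N, N⁆).relIndex (_root_.commutator G) ∈ K0 N := e1 ▸ (K0 N).pow_relIndex_mem hy
  refine h.fpf (x := y ^ q ^ j) (pow_mem hy _)
    (fun m => hy' (mem_of_cop (((Nat.Prime.coprime_iff_not_dvd hq).2 hm).pow_left j) m e2)) ha
    (Commute.pow_left c _) ?_
  exact (hk.coprime_dvd_left (orderOf_dvd_of_pow_eq_one (by rw [← pow_mul, e]))).coprime_dvd_right
    (orderOf_dvd_of_pow_eq_one (hqA a ha))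

theorem compl (h : St N g₀) (hc : ((⁅N, N⁆).relIndex (_root_.commutator G)).Coprime (Nat.card ↥(⁅N, N⁆)))
    (hf : ∀ y ∈ N, y ∉ K0 N → ∀ a ∈ ⁅N, N⁆, y * a = a * y → a = 1) : ∃ J, IsComplement' ⁅N, N⁆ J := by
  obtain ⟨r, hr, hd⟩ := Nat.exists_prime_and_dvd (mt relIndex_eq_one.1 h.lt.not_ge)
  have : Fact r.Prime := ⟨hr⟩
  obtain ⟨S, hS⟩ := LAE.exists_isSylowIn r (_root_.commutator G)
  have : (S ⊔ ⁅N, N⁆).Normal := normalizer_eq_top_iff.1 (eq_top_iff.2 fun g _ => by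
    refine LAE.mem_normalizer_of_conjS_le ?_
    rw [LAE.conjS_sup, LAE.conjS_eq_of_normal g ⁅N, N⁆]
    refine sup_le (LAE.conjS_le_iff_forall.2 fun s hs => ?_) le_sup_right
    obtain ⟨b, hb, y, hy, rfl⟩ := hS.frattini (x := g) (by rw [normalizer_eq_top]; exact mem_top g)
    have h1 := LAE.conj_mem_of_mem_normalizer hy hs
    rw [show b * y * s * (b * y)⁻¹ = ⁅b, y * s * y⁻¹⁆ * (y * s * y⁻¹) by simp only [commutatorElement_def]; group]
    exact mul_mem (mem_sup_right (commutator_mem_commutator (h.comm_le hb) (h.comm_le (hS.le h1)))) (mem_sup_left h1))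
  obtain ⟨x, hx, x1⟩ : ∃ x ∈ S, x ∉ ⁅N, N⁆ := by
    by_contra! c
    exact hS.not_dvd_relIndex (hd.trans (relIndex_dvd_of_le_left _ c))
  exact NDiv.exists_compl hS.isPGroup (fun e => hr.ne_one (Nat.eq_one_of_dvd_coprimes hc hd e)) fun v hv c =>
    hf x (h.comm_le (hS.le hx)) (fun m => x1 (h.inf.le ⟨m, hS.le hx⟩)) v hv (c x hx)

theorem core [Group.IsSolvable G] (h : St N g₀) (hA : ⁅N, N⁆ ≠ ⊥)
    (hmin : ∀ M : Subgroup G, M.Normal → M ≤ ⁅N, N⁆ → M = ⊥ ∨ M = ⁅N, N⁆)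
    (hc : ((⁅N, N⁆).relIndex (_root_.commutator G)).Coprime (Nat.card ↥(⁅N, N⁆))) : N.index.Prime := by
  obtain ⟨q, hq, hcomm, hqA⟩ := Core.isElementaryAbelian_of_minimal_normal hA hmin
  have : Fact q.Prime := ⟨hq⟩
  have ab : ∀ a ∈ ⁅N, N⁆, ∀ b ∈ ⁅N, N⁆, a * b = b * a := fun a ha b hb =>
    congrArg Subtype.val (hcomm.is_comm.comm ⟨a, ha⟩ ⟨b, hb⟩)
  obtain ⟨a₀, ha₀, a1⟩ := (bot_or_exists_ne_one _).resolve_left hA
  have hm : ¬ q ∣ (⁅N, N⁆).relIndex (_root_.commutator G) := fun e =>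
    hq.ne_one (Nat.eq_one_of_dvd_coprimes hc e (by
      rw [← orderOf_eq_prime (hqA a₀ ha₀) a1]; exact orderOf_dvd_natCard _ ha₀))
  have hf : ∀ y ∈ N, y ∉ K0 N → ∀ a ∈ ⁅N, N⁆, y * a = a * y → a = 1 := fun y hy hy' => fpf h hq hqA hm hy hy'
  obtain ⟨J, hJ⟩ := compl h hc hf
  obtain ⟨x, hx, x1⟩ := SetLike.exists_of_lt h.lt
  have x2 : x ∉ K0 N := fun m => x1 (h.inf.le ⟨m, hx⟩)
  let f := (MulDistribMulAction.toMulAut G (Lin ⁅N, N⁆)).rangeRestrict
  have hs : Function.Surjective f := MonoidHom.rangeRestrict_surjective _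
  have act : ∀ (g : G) (l : Lin ⁅N, N⁆), f g • l = g • l := fun _ _ => rfl
  have : Finite (MulDistribMulAction.toMulAut G (Lin ⁅N, N⁆)).range := Finite.of_surjective f hs
  have ker : ∀ g, f g = 1 ↔ ∀ a ∈ ⁅N, N⁆, g * a = a * g := fun g => by
    constructor
    · intro e a ha
      by_contra c
      obtain ⟨l, l1, -⟩ := exists_lin_of_ne (Y := ⊥) ab
        (mul_mem (Normal.conj_mem inferInstance a ha g) (inv_mem ha) : ⁅g, a⁆ ∈ ⁅N, N⁆)
        (mt commutatorElement_eq_one_iff_mul_comm.1 c)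
      exact l1 (mem_stab_iff.1 (show g • l = l by rw [← act, e, one_smul]) a ha)
    · intro c
      refine Subtype.ext (MulEquiv.ext fun l => ?_)
      show g • l = l
      exact mem_stab_iff.2 fun v hv => by
        rw [← map_one l.hom]; congr 1
        exact Subtype.ext (commutatorElement_eq_one_iff_mul_comm.2 (c v hv))
  have kA : ∀ a ∈ ⁅N, N⁆, f a = 1 := fun a ha => (ker a).2 (ab a ha)
  have k1 : ∀ g ∈ N, f g = 1 → g ∈ K0 N := fun g hg e => by
    by_contra c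
    exact a1 (hf g hg c a₀ ha₀ ((ker g).1 e a₀ ha₀))
  have k2 : ∀ u g : G, f ⁅u, g⁆ = 1 → ⁅u, g⁆ ∈ ⁅N, N⁆ := fun u g e =>
    have m := commutator_mem_commutator (mem_top u) (mem_top g)
    h.inf.le ⟨k1 _ (h.comm_le m) e, m⟩
  have k3 : ∀ g, f g = 1 → g ∈ K0 N := fun g e => by
    refine k1 g (by_contra fun c => x2 (h.frob c (h.comm_le hx) (k2 _ _ ?_))) e
    rw [map_commutatorElement, e, commutatorElement_one_right]
  have hi : (N.map f).index = N.index := index_map_eq _ hs fun g hg => K0_le (k3 g hg)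
  have hst : ∀ l : Lin ⁅N, N⁆, (stabilizer (MulDistribMulAction.toMulAut G (Lin ⁅N, N⁆)).range l).index =
      (stabilizer G l).index := fun l => (index_comap_of_surjective _ hs).symm
  have hne : ∀ l : Lin ⁅N, N⁆, l ≠ 1 → stabilizer G l ≠ ⊤ := fun l l1 e =>
    l1 (lin_eq_one (e ▸ mem_top x : x ∈ stabilizer G l) (hf x (h.comm_le hx) x2))
  have : Nontrivial (Lin ⁅N, N⁆) := by
    obtain ⟨l, l1, -⟩ := exists_lin_of_ne (Y := ⊥) ab ha₀ a1
    exact ⟨l, 1, fun e => l1 (by rw [e]; rfl)⟩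
  have : (N.map f).Normal := h.nor.map _ hs
  have : ((_root_.commutator G).map f).Normal := Normal.map inferInstance _ hs
  have cm : ∀ a b : G, ⁅a, b⁆ ∈ ⁅N, N⁆ → f a * f b = f b * f a := fun a b m =>
    commutatorElement_eq_one_iff_mul_comm.1 (by rw [← map_commutatorElement, kA _ m])
  rw [← hi]
  refine cnt (W := Lin ⁅N, N⁆) (q := q) (fun l => MonoidHom.ext fun a => ?_) (N.map f) ((_root_.commutator G).map f)
    ((K0 N).map f) ?_ (by rw [← Subgroup.map_sup, sup_comm, h.sup]) ?_ ?_ ?_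
    (map_commutator_of_surjective hs).ge (h₀ := f g₀) ?_ (fun e => h.index_ne (by rw [← hi, e, index_top])) ?_ ?_ ?_ ?_
  · show l.hom a ^ q = 1
    rw [← map_pow, show a ^ q = 1 from Subtype.ext (hqA a a.2), map_one]
  · rintro _ ⟨k, hk, rfl⟩
    refine mem_center_iff.2 fun g => ?_
    obtain ⟨g, rfl⟩ := hs g
    exact (cm k g ((mem_K0.1 hk).2 g)).symm
  · rw [eq_bot_iff]
    rintro _ ⟨⟨b, hb, rfl⟩, k, hk, e⟩
    have : k * b⁻¹ ∈ K0 N := k3 _ (by rw [map_mul, map_inv, e, mul_inv_cancel])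
    exact kA b (h.inf.le ⟨(K0 N).inv_mem_iff.1 (((K0 N).mul_mem_cancel_left hk).1 this), hb⟩)
  · intro e
    exact x2 (k3 x (e.le (mem_map_of_mem f hx)))
  · rintro _ ⟨a, ha, rfl⟩ _ ⟨b, hb, rfl⟩
    exact cm a b (commutator_mem_commutator (h.comm_le ha) (h.comm_le hb))
  · have := congrArg (map f) h.gen
    rwa [Subgroup.map_sup, map_top_of_surjective _ hs, MonoidHom.map_zpowers] at this
  · rintro g hg _ ⟨b, hb, rfl⟩ c
    obtain ⟨g, rfl⟩ := hs g
    refine kA b (h.inf.le ⟨h.frob (fun m => hg (mem_map_of_mem f m)) (h.comm_le hb) (k2 _ _ ?_), hb⟩)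
    rw [map_commutatorElement]
    exact commutatorElement_eq_one_iff_mul_comm.2 c.symm
  · rintro _ ⟨g, hg, rfl⟩ l e
    by_cases c : g ∈ K0 N
    · have hn : (⁅N, N⁆ ⊓ centralizer {g}).Normal := ⟨fun a ha t => ⟨Normal.conj_mem inferInstance a ha.1 t, by
        have e1 : a * g = g * a := mem_centralizer_singleton_iff.1 ha.2
        have e2 := ab _ ((mem_K0.1 (inv_mem c)).2 t⁻¹) a ha.1
        refine mem_centralizer_singleton_iff.2 ?_
        calc t * a * t⁻¹ * g = t * (a * g) * ⁅g⁻¹, t⁻¹⁆ * t⁻¹ := by simp only [commutatorElement_def]; group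
          _ = t * g * (a * ⁅g⁻¹, t⁻¹⁆) * t⁻¹ := by rw [e1]; group
          _ = _ := by rw [← e2]; simp only [commutatorElement_def]; group⟩⟩
      rcases hmin _ hn inf_le_left with e1 | e1
      · exact Or.inr (lin_eq_one (t := g) e fun y hy c' =>
          e1.le ⟨hy, mem_centralizer_singleton_iff.2 c'.symm⟩)
      · exact Or.inl ((ker g).2 fun a ha => (mem_centralizer_singleton_iff.1 (e1.ge ha).2).symm)
    · exact Or.inr (lin_eq_one (t := g) e (hf g hg c))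
  · intro l l1 d
    obtain ⟨⟨χ, hχ, e⟩, -⟩ := split h.nd hJ l (hne l l1)
    rw [hst, hi, ← e] at d ⊢
    exact h.eq_index hχ d
  · intro l l' l1 l1' d
    obtain ⟨⟨χ, hχ, e⟩, -⟩ := split h.nd hJ l (hne l l1)
    obtain ⟨⟨χ', hχ', e'⟩, -⟩ := split h.nd hJ l' (hne l' l1')
    rw [hst, hst, ← e, ← e'] at d ⊢
    exact h.nd χ χ' hχ hχ' (by rw [e]; exact mt index_eq_one.1 (hne l l1)) d

end Two

theorem St.two [Group.IsSolvable G] (h : St N g₀) (hA : ⁅N, N⁆ ≠ ⊥)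
    (hc : ((⁅N, N⁆).relIndex (_root_.commutator G)).Coprime (Nat.card ↥(⁅N, N⁆))) : N.index.Prime := by
  obtain ⟨L, ⟨hL, hlt⟩, hmax⟩ := Set.exists_max_image {L : Subgroup G | L.Normal ∧ L < ⁅N, N⁆}
    (fun L => Nat.card L) (Set.toFinite _) ⟨⊥, inferInstance, bot_lt_iff_ne_bot.2 hA⟩
  have hs := QuotientGroup.mk'_surjective L
  have h' := h.quot L hlt.le
  have := h'.nor
  have hk := QuotientGroup.ker_mk' L
  rw [← St.index_quot (hlt.le.trans St.A_le)]
  refine Two.core h' ?_ (fun M hM hle => ?_) ?_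
  · rw [← map_commutator, Ne, Subgroup.map_eq_bot_iff, hk]
    exact hlt.not_ge
  · rw [← map_commutator] at hle ⊢
    have h1 : L ≤ M.comap (QuotientGroup.mk' L) := hk.ge.trans (ker_le_comap _ _)
    have h2 : M.comap (QuotientGroup.mk' L) ≤ ⁅N, N⁆ := by
      have := comap_mono (f := QuotientGroup.mk' L) hle
      rwa [comap_map_eq, hk, sup_eq_left.2 hlt.le] at this
    rw [← map_comap_eq_self_of_surjective hs M]
    rcases h2.eq_or_lt with e | e
    · exact Or.inr (by rw [e])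
    · refine Or.inl ?_
      rw [← eq_of_le_of_card_ge h1 (hmax _ ⟨hM.comap _, e⟩), Subgroup.map_eq_bot_iff, hk]
  · rw [← map_commutator, ← map_commutator_of_surjective hs, relIndex_map_map, hk, sup_eq_left.2 hlt.le,
      sup_eq_left.2 (hlt.le.trans h.lt.le)]
    exact hc.coprime_dvd_right (card_map_dvd _ _)

end CfsgLib.LMW
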